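import Cfsg.Agent.SporRec.TwoSp6.Order

/-!
# The relations between `C = 2·Sp₆(2)` and one element `w` of order three (third Conway group)

`φ : M →* G` embeds the model `M` of `2·Sp₆(2)` (`TwoSp6.Model`) in `G`.  `WRel φ w v e` is the list of relations of
the element `w`; `v = e = 1` holds in the third Conway group.  Words: letters `0 … 6` are the generators of `M`,
`7` is the central involution `z`.
-/

set_option autoImplicit false

namespace Cfsg.Agent.SporRec.Co3DC

open Cfsg.Agent.SporRec.TwoSp6.Model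

/-- value of a word in the model -/
noncomputable abbrev W (l : List ℕ) : M := wv gen z l

def bW : List ℕ := [1,4,6]
def e1W : List ℕ := [0,2,0,3,1,2,3,4,3,1,2,0,3,2,6,7]
def e2W : List ℕ := [0,2,0,4,5,4,3,1,2,3,4,5,6,5,4,3,1,2,0,3,2,4,5]
def yW : List ℕ := [0,2,0,3,1,2,0,3,2,4,3,1,2,0,3,2,4,3,5,4,6,5,4,7]
def xW : List ℕ := [2,0,7]
def kW : List ℕ := [0,5,4,6,5]
def sW : List ℕ := [0,1,4,6,7]
def nW : List ℕ := [3,2,0,4,3,1,2,3]
def mW : List ℕ := [2,0,3,1,2,0,3,2,6,7]
def m2W : List ℕ := [3,2,0,4,3,1,2,0,3,7]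

/-- The relations between `φ : M →* G` and `w`: conjugation by `w` on `D = C_M(B) = ⟨E1, X, Y, K⟩`, `w ^ 3 = 1`, `w` is
inverted by `S`, and one relation from the normaliser of `⟨z, B, E1, E2⟩`. -/
structure WRel {G : Type*} [Group G] (φ : M →* G) (w : G) (v e : M) : Prop where
  w3 : w * w * w = 1
  hz : φ z * w = w * φ (W bW)
  hB : φ (W bW) * w = w * φ (z * W bW)
  hE1 : φ (W e1W) * w = w * φ (W e1W)
  hY : φ (W yW) * w = w * φ (W yW)
  hX : φ (W xW) * w = w * φ (W xW * W yW)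
  hK : φ (W kW) * w = w * φ (W kW * v)
  hS : φ (W sW) * w = w⁻¹ * φ (W sW)
  hN : w * φ (W nW) * w = φ (e * W mW) * w * φ (W m2W)

end Cfsg.Agent.SporRec.Co3DC
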