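import Cfsg.Agent.SporRec.Co3DC.Kern

/-!
# `⟨φ M, w⟩` has order at most `|Co₃| = 495766656000`
-/

set_option autoImplicit false
set_option exponentiation.threshold 2000
set_option maxRecDepth 100000

namespace Cfsg.Agent.SporRec.Co3DC.Bound

open Cfsg.Agent.SporRec.TwoSp6.Mat Cfsg.Agent.SporRec.TwoSp6.Model Cfsg.Agent.Lib.PackMat
  Cfsg.Agent.SporRec.Co3DC Cfsg.Agent.SporRec.Co3DC.Chk Cfsg.Agent.SporRec.Co3DC.Final
  Cfsg.Agent.SporRec.Co3DC.Count Cfsg.Agent.SporRec.Co3DC.Data

/-! ### consequences in the model -/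

attribute [local irreducible] wP pc mulP swapP mulN Yb

theorem pk_eq (i : ℕ) (l : List ℕ) : pk i l =
    cond (Nat.beq l.length 630) (permOK Yb (ltN i) (mulN zN (ltN i)) l 0) false := by
  unfold pk
  rw [force_eq, force_eq]

theorem pk_sound {i : ℕ} {l : List ℕ} (h : pk i l = true) :
    ∀ j < 630, ∃ k < 630, mulN (mulN zN (ltN i)) (mulN (yc Yb j) (ltN i)) = yc Yb k := by
  rw [pk_eq] at h
  obtain ⟨h1, h2⟩ := cond_true_of h
  have hl := Nat.eq_of_beq_eq_true h1
  intro j hj
  obtain ⟨k, hk, e⟩ := permOK_sound h2 j (by omega)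
  rw [Nat.zero_add] at e
  exact ⟨k, hk, e⟩

theorem cdB : cd B = yc Yb 0 := by
  have : cd B = wN bW := cd_wv bW
  rw [this]
  exact Nat.eq_of_beq_eq_true start

theorem dir_mem' (p : M) : ∃ j < 630, dir p = yc Yb j := by
  refine dir_mem cdB ?_ p
  intro i
  fin_cases i
  · exact pk_sound pk0
  · exact pk_sound pk1
  · exact pk_sound pk2
  · exact pk_sound pk3
  · exact pk_sound pk4
  · exact pk_sound pk5
  · exact pk_sound pk6

theorem yc_ne : ∀ i < 630, ∀ i' < i, yc Yb i ≠ yc Yb i' := by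
  intro i hi i' hi'
  have := (distK_sound 630 dist).2 i hi i' hi'
  rwa [Nat.zero_add, Nat.zero_add] at this

section Sem

variable {G : Type*} [Group G]

/-- the representatives of the double cosets -/
noncomputable def gg (φ : M →* G) (w : G) : ℕ → G
  | 0 => 1
  | 1 => w
  | 2 => w * φ (W [3]) * w
  | 3 => w * φ (W [3,5]) * w
  | 4 => w * φ (W [0,3,5]) * w
  | 5 => w * φ (W [3,5]) * (w * φ (W [3]) * w)
  | 6 => w * φ (W [0,3,5,4]) * (w * φ (W [0,3,5]) * w)
  | _ => 1

variable {φ : M →* G} {w : G}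

theorem W_nil : W [] = 1 := rfl

theorem init_e (t : ℕ × List ℕ × ℕ) (ht : t ∈ e0) : w * φ (W t.2.1) * gg φ w t.1 = gg φ w t.2.2 := by
  simp only [e0, List.mem_cons, List.not_mem_nil, or_false] at ht
  rcases ht with rfl | rfl | rfl | rfl | rfl | rfl
  · show w * φ (W []) * 1 = w
    rw [W_nil, map_one, mul_one, mul_one]
  all_goals rfl

theorem W_7 : W [7] = z := by
  show wv gen z [7] = z
  rw [wv_cons, wv_nil, mul_one]
  unfold Cfsg.Agent.SporRec.TwoSp6.Model.lt
  split_ifs <;> first | rfl | contradiction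

theorem W_b7 : W [1,4,6,7] = z * W bW := by
  have : W [1,4,6,7] = W bW * W [7] := wv_append _ _ [1,4,6] [7]
  rw [this, W_7, z_comm]

theorem W_xy : W [2,0,7,0,2,0,3,1,2,0,3,2,4,3,1,2,0,3,2,4,3,5,4,6,5,4,7] = W xW * W yW := wv_append _ _ xW yW

theorem init_s (R : WRel φ w 1 1) (t : ℕ × List ℕ × List ℕ) (ht : t ∈ s0) :
    φ (W t.2.1) * gg φ w t.1 = gg φ w t.1 * φ (W t.2.2) := by
  simp only [s0, List.mem_cons, List.not_mem_nil, or_false] at ht
  rcases ht with rfl | rfl | rfl | rfl | rfl | rfl | rfl | rfl | rfl | rfl | rfl | rfl | rfl | rfl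
  · exact (mul_one _).trans (one_mul _).symm
  · exact (mul_one _).trans (one_mul _).symm
  · exact (mul_one _).trans (one_mul _).symm
  · exact (mul_one _).trans (one_mul _).symm
  · exact (mul_one _).trans (one_mul _).symm
  · exact (mul_one _).trans (one_mul _).symm
  · exact (mul_one _).trans (one_mul _).symm
  · exact (mul_one _).trans (one_mul _).symm
  · show φ (W [7]) * w = w * φ (W bW)
    rw [W_7]; exact R.hz
  · show φ (W bW) * w = w * φ (W [1,4,6,7])
    rw [W_b7]; exact R.hB
  · exact R.hE1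
  · show φ (W xW) * w = w * φ (W [2,0,7,0,2,0,3,1,2,0,3,2,4,3,1,2,0,3,2,4,3,5,4,6,5,4,7])
    rw [W_xy]; exact R.hX
  · exact R.hY
  · have := R.hK
    rw [mul_one] at this
    exact this

theorem chk_sound (R : WRel φ w 1 1) {K : List EF → List SF → Bool} (h : chk K = true) :
    ∃ E S, AllE φ w (gg φ w) E ∧ AllS φ (gg φ w) S ∧ K E S = true := by
  unfold chk at h
  have hN := R.hN
  rw [one_mul] at hN
  obtain ⟨C, hC, h⟩ := initC_sound R.hS hN R.w3 h
  obtain ⟨E, hE, h⟩ := initE_sound (φ := φ) (w := w) (g := gg φ w) e0 init_e (fun f hf => absurd hf (by simp)) h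
  obtain ⟨S, hS, h⟩ := initS_sound (φ := φ) (g := gg φ w) s0 (init_s R) (fun f hf => absurd hf (by simp)) h
  exact run_sound rfl hC steps hE hS h

theorem fin_eq (i P : ℕ) (cl : List CI) (gl l : List ℕ) : fin i P cl gl l =
    chk fun E S => cond (cov Yb (wN bW) i E S cl 0) (gensA S i gl [] fun gs => en P l gs) false := by
  unfold fin
  rw [force_eq]

theorem finB_eq (P : ℕ) (gl l : List ℕ) : finB P gl l =
    chk fun _ S => gensB S (wN bW) gl [] fun gs => en P l gs := by
  unfold finB
  rw [force_eq]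

theorem fin_sound (R : WRel φ w 1 1) {i P : ℕ} {cl : List CI} {gl l : List ℕ} (h : fin i P cl gl l = true) :
    (∀ idx < 630, Good φ w (gg φ w) i (yc Yb idx)) ∧ l.length + 1 ≤ Nat.card (KG φ (gg φ w) i) := by
  rw [fin_eq] at h
  obtain ⟨E, S, hE, hS, h⟩ := chk_sound R h
  obtain ⟨h1, h2⟩ := cond_true_of h
  constructor
  · refine cov_sound (cd_wv bW).symm hE hS cl ?_ h1
    intro idx hidx
    rw [Nat.zero_testBit] at hidx
    exact absurd hidx (by simp)
  · obtain ⟨gs, hgs, h3⟩ := gensA_sound hS gl (fun c hc => absurd hc (by simp)) h2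
    exact card_ge _ hgs l h3

theorem finB_sound (R : WRel φ w 1 1) {P : ℕ} {gl l : List ℕ} (h : finB P gl l = true) :
    l.length + 1 ≤ Nat.card (NB φ w) := by
  rw [finB_eq] at h
  obtain ⟨E, S, hE, hS, h⟩ := chk_sound R h
  obtain ⟨gs, hgs, h3⟩ := gensB_sound rfl hS (cd_wv bW).symm gl (fun c hc => absurd hc (by simp)) h
  exact card_ge _ hgs l h3

theorem norm (R : WRel φ w 1 1) : Norm φ w := by
  refine norm_of_card (card_cent_le yc_ne fun i hi => ((fin_sound R fin1).1 i hi).1) ?_
  have := finB_sound R finb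
  rw [len1] at this
  exact this

theorem index_le {K : Subgroup M} {c : ℕ} (h : c ≤ Nat.card K) (n : ℕ) (hn : n * c = 2903040) (hc : 0 < c) : K.index ≤ n := by
  have h1 := K.card_mul_index
  rw [Cfsg.Agent.SporRec.TwoSp6.Order.card_M] at h1
  have : c * K.index ≤ c * n := by
    calc c * K.index ≤ Nat.card K * K.index := Nat.mul_le_mul_right _ h
      _ = c * n := by rw [h1, mul_comm c n, hn]
  exact Nat.le_of_mul_le_mul_left this hc

theorem cover (R : WRel φ w 1 1) {i : ℕ} (h : ∀ idx < 630, Good φ w (gg φ w) i (yc Yb idx)) (p : M) :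
    w * φ p * gg φ w i ∈ U φ (gg φ w) := by
  obtain ⟨j, hj, e⟩ := dir_mem' p
  exact (h j hj).2 (norm R) p e

/-- sizes of the double cosets -/
def sz : ℕ → ℕ
  | 0 => 1
  | 1 => 630
  | 2 => 30240
  | 3 => 8960
  | 4 => 80640
  | 5 => 48384
  | _ => 1920

/-- **The order bound**: the subgroup generated by `φ M` and `w` has order at most the order of the third Conway
group. -/
theorem card_le {G : Type*} [Group G] (φ : M →* G) (w : G) (R : WRel φ w 1 1) :
    Finite (Subgroup.closure (Set.range φ ∪ {w})) ∧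
      Nat.card (Subgroup.closure (Set.range φ ∪ {w})) ≤ 495766656000 := by
  have h1 := fin_sound R fin1
  have h2 := fin_sound R fin2
  have h3 := fin_sound R fin3
  have h4 := fin_sound R fin4
  have h5 := fin_sound R fin5
  have h6 := fin_sound R fin6
  rw [len1] at h1
  rw [len2] at h2
  rw [len3] at h3
  rw [len4] at h4
  rw [len5] at h5
  rw [len6] at h6
  have hidx : ∀ k < 7, (KG φ (gg φ w) k).index ≤ sz k := by
    intro k hk
    interval_cases k
    · have : KG φ (gg φ w) 0 = ⊤ := by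
        rw [eq_top_iff]
        intro a _
        exact ⟨a, (mul_one _).trans (one_mul _).symm⟩
      rw [this, Subgroup.index_top]
      exact le_refl 1
    · exact index_le h1.2 630 (by norm_num) (by norm_num)
    · exact index_le h2.2 30240 (by norm_num) (by norm_num)
    · exact index_le h3.2 8960 (by norm_num) (by norm_num)
    · exact index_le h4.2 80640 (by norm_num) (by norm_num)
    · exact index_le h5.2 48384 (by norm_num) (by norm_num)
    · exact index_le h6.2 1920 (by norm_num) (by norm_num)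
  have hU := card_U (φ := φ) (g := gg φ w) sz hidx
  have hsum : 2903040 * ∑ k ∈ Finset.range 7, sz k = 495766656000 := by decide
  rw [hsum] at hU
  have hcov : ∀ i < 7, 0 < i → ∀ p : M, w * φ p * gg φ w i ∈ U φ (gg φ w) := by
    intro i hi hpos p
    interval_cases i
    · exact cover R h1.1 p
    · exact cover R h2.1 p
    · exact cover R h3.1 p
    · exact cover R h4.1 p
    · exact cover R h5.1 p
    · exact cover R h6.1 p
  have hsub : ((Subgroup.closure (Set.range φ ∪ {w}) : Subgroup G) : Set G) ⊆ U φ (gg φ w) :=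
    closure_le_U rfl rfl R.w3 hcov
  refine ⟨hU.1.subset hsub, ?_⟩
  exact le_trans (Set.ncard_le_ncard hsub hU.1) hU.2

end Sem

end Cfsg.Agent.SporRec.Co3DC.Bound
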