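import Cfsg.Agent.SporRec.TwoSp6.EFacts

/-!
# Elements acting on the elementary abelian group `E = ⟨z, b, e₁, e₂⟩` (third Conway group)

`φ : M →* G` embeds the model `M` of `2·Sp₆(2)` in `G` with image the centraliser of `φ z`. `ee φ i` (`i < 16`) are the
elements of `E`, `Act φ g a b c d` says that conjugation by `g` (`x ↦ g⁻¹ x g`) maps the elements `1, 2, 4, 8` of `E` to
the elements `a, b, c, d`.
-/

set_option autoImplicit false

namespace Cfsg.Agent.SporRec.Co3DC.EAct

open Cfsg.Agent.SporRec.TwoSp6.Mat Cfsg.Agent.SporRec.TwoSp6.Model Cfsg.Agent.SporRec.TwoSp6.Order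
  Cfsg.Agent.SporRec.TwoSp6.Conj Cfsg.Agent.SporRec.TwoSp6.EFacts

variable {G : Type*} [Group G]

/-- `φ` is injective with image the centraliser of `φ z`. -/
structure Hyp (φ : M →* G) : Prop where
  inj : Function.Injective φ
  cent : ∀ g : G, g * φ z = φ z * g → ∃ x : M, φ x = g

/-- the `i`-th element of `E` -/
noncomputable def ee (φ : M →* G) (i : ℕ) : G := φ (v (ew i))

theorem ee_def (φ : M →* G) (i : ℕ) : ee φ i = φ (v (ew i)) := rfl

theorem ee_mul (φ : M →* G) {i j : ℕ} (hi : i < 16) (hj : j < 16) : ee φ i * ee φ j = ee φ (i ^^^ j) := by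
  rw [ee_def, ee_def, ee_def, ← map_mul, ew_mul hi hj]

theorem ee_zero (φ : M →* G) : ee φ 0 = 1 := by rw [ee_def, ew_zero, map_one]

theorem ee_one (φ : M →* G) : ee φ 1 = φ z := by rw [ee_def, ew_one]

theorem ee_sq (φ : M →* G) {i : ℕ} (hi : i < 16) : ee φ i * ee φ i = 1 := by
  rw [ee_mul φ hi hi, Nat.xor_self, ee_zero]

theorem ee_inv (φ : M →* G) {i : ℕ} (hi : i < 16) : (ee φ i)⁻¹ = ee φ i :=
  inv_eq_of_mul_eq_one_left (ee_sq φ hi)

theorem ee_comm (φ : M →* G) {i j : ℕ} (hi : i < 16) (hj : j < 16) : ee φ i * ee φ j = ee φ j * ee φ i := by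
  rw [ee_mul φ hi hj, ee_mul φ hj hi, Nat.xor_comm]

theorem ee_inj {φ : M →* G} (H : Hyp φ) {i j : ℕ} (hi : i < 16) (hj : j < 16) (h : ee φ i = ee φ j) : i = j :=
  ew_inj hi hj (H.inj h)

/-- conjugation -/
def cj (g x : G) : G := g⁻¹ * x * g

theorem cj_def (g x : G) : cj g x = g⁻¹ * x * g := rfl

theorem cj_mul (g x y : G) : cj g (x * y) = cj g x * cj g y := by
  rw [cj_def, cj_def, cj_def]; group

theorem cj_one (g : G) : cj g 1 = 1 := by rw [cj_def]; group

theorem cj_cj (g h x : G) : cj h (cj g x) = cj (g * h) x := by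
  rw [cj_def, cj_def, cj_def]; group

theorem cj_inj {g x y : G} (h : cj g x = cj g y) : x = y := by
  rw [cj_def, cj_def] at h
  exact mul_left_cancel (mul_right_cancel h)

theorem cj_inv_cj (g x : G) : cj g⁻¹ (cj g x) = x := by
  rw [cj_def, cj_def]; group

theorem comm_of_cj {g x : G} (h : cj g x = x) : g * x = x * g := by
  rw [cj_def] at h
  calc g * x = g * (g⁻¹ * x * g) := by rw [h]
    _ = x * g := by group

theorem cj_of_comm {g x : G} (h : g * x = x * g) : cj g x = x := by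
  rw [cj_def, mul_assoc, ← h, inv_mul_cancel_left]

/-- linear extension -/
def lin (a b c d i : ℕ) : ℕ :=
  ((bif i.testBit 0 then a else 0) ^^^ (bif i.testBit 1 then b else 0)) ^^^
    ((bif i.testBit 2 then c else 0) ^^^ (bif i.testBit 3 then d else 0))

theorem lin_def (a b c d i : ℕ) : lin a b c d i =
  ((bif i.testBit 0 then a else 0) ^^^ (bif i.testBit 1 then b else 0)) ^^^
    ((bif i.testBit 2 then c else 0) ^^^ (bif i.testBit 3 then d else 0)) := rfl

theorem lin0 (a b c d : ℕ) : lin a b c d 0 = 0 := by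
  rw [lin_def, show Nat.testBit 0 0 = false from by decide, show Nat.testBit 0 1 = false from by decide, show Nat.testBit 0 2 = false from by decide, show Nat.testBit 0 3 = false from by decide]
  simp

theorem lin1 (a b c d : ℕ) : lin a b c d 1 = a := by
  rw [lin_def, show Nat.testBit 1 0 = true from by decide, show Nat.testBit 1 1 = false from by decide, show Nat.testBit 1 2 = false from by decide, show Nat.testBit 1 3 = false from by decide]
  simp

theorem lin2 (a b c d : ℕ) : lin a b c d 2 = b := by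
  rw [lin_def, show Nat.testBit 2 0 = false from by decide, show Nat.testBit 2 1 = true from by decide, show Nat.testBit 2 2 = false from by decide, show Nat.testBit 2 3 = false from by decide]
  simp

theorem lin3 (a b c d : ℕ) : lin a b c d 3 = a ^^^ b := by
  rw [lin_def, show Nat.testBit 3 0 = true from by decide, show Nat.testBit 3 1 = true from by decide, show Nat.testBit 3 2 = false from by decide, show Nat.testBit 3 3 = false from by decide]
  simp

theorem lin4 (a b c d : ℕ) : lin a b c d 4 = c := by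
  rw [lin_def, show Nat.testBit 4 0 = false from by decide, show Nat.testBit 4 1 = false from by decide, show Nat.testBit 4 2 = true from by decide, show Nat.testBit 4 3 = false from by decide]
  simp

theorem lin5 (a b c d : ℕ) : lin a b c d 5 = a ^^^ c := by
  rw [lin_def, show Nat.testBit 5 0 = true from by decide, show Nat.testBit 5 1 = false from by decide, show Nat.testBit 5 2 = true from by decide, show Nat.testBit 5 3 = false from by decide]
  simp

theorem lin6 (a b c d : ℕ) : lin a b c d 6 = b ^^^ c := by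
  rw [lin_def, show Nat.testBit 6 0 = false from by decide, show Nat.testBit 6 1 = true from by decide, show Nat.testBit 6 2 = true from by decide, show Nat.testBit 6 3 = false from by decide]
  simp

theorem lin7 (a b c d : ℕ) : lin a b c d 7 = (a ^^^ b) ^^^ c := by
  rw [lin_def, show Nat.testBit 7 0 = true from by decide, show Nat.testBit 7 1 = true from by decide, show Nat.testBit 7 2 = true from by decide, show Nat.testBit 7 3 = false from by decide]
  simp

theorem lin8 (a b c d : ℕ) : lin a b c d 8 = d := by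
  rw [lin_def, show Nat.testBit 8 0 = false from by decide, show Nat.testBit 8 1 = false from by decide, show Nat.testBit 8 2 = false from by decide, show Nat.testBit 8 3 = true from by decide]
  simp

theorem lin9 (a b c d : ℕ) : lin a b c d 9 = a ^^^ d := by
  rw [lin_def, show Nat.testBit 9 0 = true from by decide, show Nat.testBit 9 1 = false from by decide, show Nat.testBit 9 2 = false from by decide, show Nat.testBit 9 3 = true from by decide]
  simp

theorem lin10 (a b c d : ℕ) : lin a b c d 10 = b ^^^ d := by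
  rw [lin_def, show Nat.testBit 10 0 = false from by decide, show Nat.testBit 10 1 = true from by decide, show Nat.testBit 10 2 = false from by decide, show Nat.testBit 10 3 = true from by decide]
  simp

theorem lin11 (a b c d : ℕ) : lin a b c d 11 = (a ^^^ b) ^^^ d := by
  rw [lin_def, show Nat.testBit 11 0 = true from by decide, show Nat.testBit 11 1 = true from by decide, show Nat.testBit 11 2 = false from by decide, show Nat.testBit 11 3 = true from by decide]
  simp

theorem lin12 (a b c d : ℕ) : lin a b c d 12 = c ^^^ d := by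
  rw [lin_def, show Nat.testBit 12 0 = false from by decide, show Nat.testBit 12 1 = false from by decide, show Nat.testBit 12 2 = true from by decide, show Nat.testBit 12 3 = true from by decide]
  simp

theorem lin13 (a b c d : ℕ) : lin a b c d 13 = a ^^^ (c ^^^ d) := by
  rw [lin_def, show Nat.testBit 13 0 = true from by decide, show Nat.testBit 13 1 = false from by decide, show Nat.testBit 13 2 = true from by decide, show Nat.testBit 13 3 = true from by decide]
  simp

theorem lin14 (a b c d : ℕ) : lin a b c d 14 = b ^^^ (c ^^^ d) := by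
  rw [lin_def, show Nat.testBit 14 0 = false from by decide, show Nat.testBit 14 1 = true from by decide, show Nat.testBit 14 2 = true from by decide, show Nat.testBit 14 3 = true from by decide]
  simp

theorem lin15 (a b c d : ℕ) : lin a b c d 15 = (a ^^^ b) ^^^ (c ^^^ d) := by
  rw [lin_def, show Nat.testBit 15 0 = true from by decide, show Nat.testBit 15 1 = true from by decide, show Nat.testBit 15 2 = true from by decide, show Nat.testBit 15 3 = true from by decide]
  simp

theorem cond_lt {a : ℕ} (ha : a < 16) (b : Bool) : (bif b then a else 0) < 16 := by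
  cases b
  · norm_num
  · exact ha

theorem xlt {a b : ℕ} (ha : a < 16) (hb : b < 16) : a ^^^ b < 16 := xor_lt a ha b hb

theorem lin_lt {a b c d : ℕ} (ha : a < 16) (hb : b < 16) (hc : c < 16) (hd : d < 16) (i : ℕ) :
    lin a b c d i < 16 :=
  xlt (xlt (cond_lt ha _) (cond_lt hb _)) (xlt (cond_lt hc _) (cond_lt hd _))

theorem lin_id : ∀ i < 16, lin 1 2 4 8 i = i := by decide

/-- action on the basis -/
structure Act (φ : M →* G) (g : G) (a b c d : ℕ) : Prop where
  ha : a < 16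
  hb : b < 16
  hc : c < 16
  hd : d < 16
  h1 : cj g (ee φ 1) = ee φ a
  h2 : cj g (ee φ 2) = ee φ b
  h4 : cj g (ee φ 4) = ee φ c
  h8 : cj g (ee φ 8) = ee φ d

theorem cj_cond (φ : M →* G) {g : G} {i a : ℕ} (h : cj g (ee φ i) = ee φ a) (b : Bool) :
    cj g (ee φ (bif b then i else 0)) = ee φ (bif b then a else 0) := by
  cases b
  · rw [cond_false, cond_false, ee_zero, cj_one]
  · exact h

theorem Act.all {φ : M →* G} {g : G} {a b c d : ℕ} (h : Act φ g a b c d) {i : ℕ} (hi : i < 16) :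
    cj g (ee φ i) = ee φ (lin a b c d i) := by
  have e1 : (1 : ℕ) < 16 := by norm_num
  have e2 : (2 : ℕ) < 16 := by norm_num
  have e4 : (4 : ℕ) < 16 := by norm_num
  have e8 : (8 : ℕ) < 16 := by norm_num
  conv_lhs => rw [← lin_id i hi]
  rw [lin_def, lin_def, ← ee_mul φ (xlt (cond_lt e1 _) (cond_lt e2 _)) (xlt (cond_lt e4 _) (cond_lt e8 _)),
    ← ee_mul φ (cond_lt e1 _) (cond_lt e2 _), ← ee_mul φ (cond_lt e4 _) (cond_lt e8 _),
    cj_mul, cj_mul, cj_mul, cj_cond φ h.h1, cj_cond φ h.h2, cj_cond φ h.h4, cj_cond φ h.h8,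
    ee_mul φ (cond_lt h.ha _) (cond_lt h.hb _), ee_mul φ (cond_lt h.hc _) (cond_lt h.hd _),
    ee_mul φ (xlt (cond_lt h.ha _) (cond_lt h.hb _)) (xlt (cond_lt h.hc _) (cond_lt h.hd _))]

theorem Act.mul {φ : M →* G} {g h : G} {a b c d a' b' c' d' : ℕ} (hg : Act φ g a b c d)
    (hh : Act φ h a' b' c' d') :
    Act φ (g * h) (lin a' b' c' d' a) (lin a' b' c' d' b) (lin a' b' c' d' c) (lin a' b' c' d' d) where
  ha := lin_lt hh.ha hh.hb hh.hc hh.hd _
  hb := lin_lt hh.ha hh.hb hh.hc hh.hd _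
  hc := lin_lt hh.ha hh.hb hh.hc hh.hd _
  hd := lin_lt hh.ha hh.hb hh.hc hh.hd _
  h1 := by rw [← cj_cj, hg.h1, hh.all hg.ha]
  h2 := by rw [← cj_cj, hg.h2, hh.all hg.hb]
  h4 := by rw [← cj_cj, hg.h4, hh.all hg.hc]
  h8 := by rw [← cj_cj, hg.h8, hh.all hg.hd]

theorem Act.congr {φ : M →* G} {g : G} {a b c d a' b' c' d' : ℕ} (hg : Act φ g a b c d)
    (h : [a, b, c, d] = [a', b', c', d']) : Act φ g a' b' c' d' := by
  simp only [List.cons.injEq, and_true] at h
  obtain ⟨rfl, rfl, rfl, rfl⟩ := h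
  exact hg

theorem Act.one (φ : M →* G) : Act φ (1 : G) 1 2 4 8 := by
  refine ⟨by norm_num, by norm_num, by norm_num, by norm_num, ?_, ?_, ?_, ?_⟩ <;>
    (rw [cj_def]; group)

theorem Act.of_ee (φ : M →* G) {i : ℕ} (hi : i < 16) : Act φ (ee φ i) 1 2 4 8 := by
  refine ⟨by norm_num, by norm_num, by norm_num, by norm_num, ?_, ?_, ?_, ?_⟩
  · exact cj_of_comm (ee_comm φ hi (by norm_num))
  · exact cj_of_comm (ee_comm φ hi (by norm_num))
  · exact cj_of_comm (ee_comm φ hi (by norm_num))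
  · exact cj_of_comm (ee_comm φ hi (by norm_num))

theorem Act.surj {φ : M →* G} (H : Hyp φ) {g : G} {a b c d : ℕ} (h : Act φ g a b c d) :
    ∀ j < 16, ∃ i < 16, lin a b c d i = j := by
  have hinj : Function.Injective fun i : Fin 16 => (⟨lin a b c d i, lin_lt h.ha h.hb h.hc h.hd i⟩ : Fin 16) := by
    intro i j hij
    have e : lin a b c d i = lin a b c d j := congrArg Fin.val hij
    have e2 : cj g (ee φ i) = cj g (ee φ j) := by rw [h.all i.2, h.all j.2, e]
    exact Fin.ext (ee_inj H i.2 j.2 (cj_inj e2))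
  intro j hj
  obtain ⟨i, hi⟩ := Finite.surjective_of_injective hinj ⟨j, hj⟩
  exact ⟨i, i.2, congrArg Fin.val hi⟩

theorem Act.cj_inv {φ : M →* G} {g : G} {a b c d : ℕ} (h : Act φ g a b c d) {i j : ℕ} (hi : i < 16)
    (hij : lin a b c d i = j) : cj g⁻¹ (ee φ j) = ee φ i := by
  rw [← hij, ← h.all hi, cj_inv_cj]

theorem Act.inv {φ : M →* G} (H : Hyp φ) {g : G} {a b c d : ℕ} (h : Act φ g a b c d) :
    ∃ a' b' c' d', Act φ g⁻¹ a' b' c' d' ∧ lin a b c d a' = 1 ∧ lin a b c d b' = 2 ∧ lin a b c d c' = 4 ∧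
      lin a b c d d' = 8 := by
  obtain ⟨a', ha, ha'⟩ := h.surj H 1 (by norm_num)
  obtain ⟨b', hb, hb'⟩ := h.surj H 2 (by norm_num)
  obtain ⟨c', hc, hc'⟩ := h.surj H 4 (by norm_num)
  obtain ⟨d', hd, hd'⟩ := h.surj H 8 (by norm_num)
  exact ⟨a', b', c', d', ⟨ha, hb, hc, hd, h.cj_inv ha ha', h.cj_inv hb hb', h.cj_inv hc hc', h.cj_inv hd hd'⟩,
    ha', hb', hc', hd'⟩

/-- `C_G(E) = E`. -/
theorem exists_ee {φ : M →* G} (H : Hyp φ) {g : G} (h : Act φ g 1 2 4 8) : ∃ i < 16, g = ee φ i := by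
  have hz : g * φ z = φ z * g := by
    have := comm_of_cj h.h1
    rwa [ee_one] at this
  obtain ⟨x, rfl⟩ := H.cent g hz
  have key : ∀ i, cj (φ x) (ee φ i) = ee φ i → x * v (ew i) = v (ew i) * x := by
    intro i hi
    apply H.inj
    rw [map_mul, map_mul]
    exact comm_of_cj hi
  obtain ⟨i, hi, rfl⟩ := exists_ew (key 2 h.h2) (key 4 h.h4) (key 8 h.h8)
  exact ⟨i, hi, rfl⟩

/-- Two elements with the same action differ by an element of `E`. -/
theorem Act.eq_mul {φ : M →* G} (H : Hyp φ) {g h : G} {a b c d : ℕ} (hg : Act φ g a b c d)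
    (hh : Act φ h a b c d) : ∃ i < 16, g = ee φ i * h := by
  have e : ∀ x y : G, cj g x = y → cj h x = y → cj (g * h⁻¹) x = x := by
    intro x y h1 h2
    rw [← cj_cj, h1, ← h2, cj_inv_cj]
  have hA : Act φ (g * h⁻¹) 1 2 4 8 :=
    ⟨by norm_num, by norm_num, by norm_num, by norm_num, e _ _ hg.h1 hh.h1, e _ _ hg.h2 hh.h2,
      e _ _ hg.h4 hh.h4, e _ _ hg.h8 hh.h8⟩
  obtain ⟨i, hi, hi'⟩ := exists_ee H hA
  exact ⟨i, hi, by rw [← hi', inv_mul_cancel_right]⟩

/-- elements of `M` -/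
theorem act_of_chk (φ : M →* G) {w : List ℕ} {i j k : ℕ} (h : chk (w, i, j, k) = true) :
    Act φ (φ (v w)) 1 i j k := by
  obtain ⟨hi, hj, hk, h2, h4, h8⟩ := chk_spec h
  refine ⟨by norm_num, hi, hj, hk, ?_, ?_, ?_, ?_⟩
  · rw [ee_one]
    apply cj_of_comm
    rw [← map_mul, ← map_mul, z_comm]
  · rw [cj_def, ee_def, ee_def, ← h2, map_mul, map_mul, map_inv]
  · rw [cj_def, ee_def, ee_def, ← h4, map_mul, map_mul, map_inv]
  · rw [cj_def, ee_def, ee_def, ← h8, map_mul, map_mul, map_inv]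

/-- **Existence of an element acting on `E` as `z → b → zb`, trivially on `e₁, e₂`.** -/
theorem exists_act {φ : M →* G} (H : Hyp φ) {g0 : G}
    (hn : ∀ i < 16, ∃ j < 16, g0⁻¹ * ee φ i * g0 = ee φ j) (hz : g0⁻¹ * φ z * g0 ≠ φ z) :
    ∃ w0 : G, Act φ w0 2 3 4 8 := by
  obtain ⟨a, ha, ha'⟩ := hn 1 (by norm_num)
  obtain ⟨b, hb, hb'⟩ := hn 2 (by norm_num)
  obtain ⟨c, hc, hc'⟩ := hn 4 (by norm_num)
  obtain ⟨d, hd, hd'⟩ := hn 8 (by norm_num)
  have A0 : Act φ g0 a b c d := ⟨ha, hb, hc, hd, ha', hb', hc', hd'⟩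
  have ha1 : a ≠ 1 := by
    rintro rfl
    rw [ee_one] at ha'
    exact hz ha'
  have ha0 : a ≠ 0 := by
    rintro rfl
    have h1 : cj g0 (ee φ 1) = cj g0 (ee φ 0) := by rw [A0.h1, ee_zero, cj_one]
    exact absurd (ee_inj H (by norm_num) (by norm_num) (cj_inj h1)) (by norm_num)
  -- step (i)
  obtain ⟨⟨w, i, j, k⟩, ht, hti⟩ := ex14 a ha (by omega)
  simp only at hti
  subst hti
  have Aγ := act_of_chk φ (chk14 _ ht)
  obtain ⟨a', b', c', d', Ai, -, hb2, -, -⟩ := Aγ.inv H
  have hi2 : cj (φ (v w))⁻¹ (ee φ i) = ee φ 2 := by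
    refine Aγ.cj_inv (i := 2) (by norm_num) ?_
    exact lin2 _ _ _ _
  have A1 := A0.mul Ai
  have e1 : lin a' b' c' d' i = 2 := by
    have := Ai.all ha
    rw [hi2] at this
    exact (ee_inj H (by norm_num) (lin_lt Ai.ha Ai.hb Ai.hc Ai.hd _) this).symm
  rw [e1] at A1
  generalize lin a' b' c' d' b = b1 at A1
  generalize lin a' b' c' d' c = c1 at A1
  generalize lin a' b' c' d' d = d1 at A1
  -- step (ii)
  obtain ⟨i1, hi1, hi1'⟩ := A1.surj H 3 (by norm_num)
  have hi1'' : 2 ≤ i1 := by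
    by_contra h
    have : i1 = 0 ∨ i1 = 1 := by omega
    rcases this with rfl | rfl
    · rw [lin0] at hi1'; omega
    · rw [lin1] at hi1'; omega
  obtain ⟨⟨w1, p, q, r⟩, ht, hti⟩ := ex14 i1 hi1 hi1''
  simp only at hti
  subst hti
  have A2 := (act_of_chk φ (chk14 _ ht)).mul A1
  have e2 : lin 2 b1 c1 d1 1 = 2 := lin1 _ _ _ _
  rw [e2, hi1'] at A2
  generalize lin 2 b1 c1 d1 q = c2 at A2
  generalize lin 2 b1 c1 d1 r = d2 at A2
  -- step (iii)
  obtain ⟨i2, hi2, hi2'⟩ := A2.surj H 4 (by norm_num)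
  have hi2'' : 4 ≤ i2 := by
    by_contra h
    have : i2 = 0 ∨ i2 = 1 ∨ i2 = 2 ∨ i2 = 3 := by omega
    rcases this with rfl | rfl | rfl | rfl <;>
      simp [lin0, lin1, lin2, lin3] at hi2'
  obtain ⟨⟨w2, p, q, r⟩, ht, hti1, hti2⟩ := ex12 i2 hi2 hi2''
  simp only at hti1 hti2
  subst hti1 hti2
  have A3 := (act_of_chk φ (chk12 _ ht)).mul A2
  have e3 : lin 2 3 c2 d2 1 = 2 := lin1 _ _ _ _
  have e4 : lin 2 3 c2 d2 2 = 3 := lin2 _ _ _ _
  rw [e3, e4, hi2'] at A3
  generalize lin 2 3 c2 d2 r = d3 at A3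
  -- step (iv)
  obtain ⟨i3, hi3, hi3'⟩ := A3.surj H 8 (by norm_num)
  have hi3'' : 8 ≤ i3 := by
    by_contra h
    have : i3 = 0 ∨ i3 = 1 ∨ i3 = 2 ∨ i3 = 3 ∨ i3 = 4 ∨ i3 = 5 ∨ i3 = 6 ∨ i3 = 7 := by omega
    rcases this with rfl | rfl | rfl | rfl | rfl | rfl | rfl | rfl <;>
      simp [lin0, lin1, lin2, lin3, lin4, lin5, lin6, lin7] at hi3'
  obtain ⟨⟨w3, p, q, r⟩, ht, hti1, hti2, hti3⟩ := ex8 i3 hi3 hi3''
  simp only at hti1 hti2 hti3
  subst hti1 hti2 hti3
  have A4 := (act_of_chk φ (chk8 _ ht)).mul A3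
  have e5 : lin 2 3 4 d3 1 = 2 := lin1 _ _ _ _
  have e6 : lin 2 3 4 d3 2 = 3 := lin2 _ _ _ _
  have e7 : lin 2 3 4 d3 4 = 4 := lin4 _ _ _ _
  rw [e5, e6, e7, hi3'] at A4
  exact ⟨_, A4⟩

end Cfsg.Agent.SporRec.Co3DC.EAct
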