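import Cfsg.Agent.SporRec.Co3DC.CutCases

/-!
# All relations of `w` are forced (third Conway group)

`(w q)⁵` for a word `q` of the normaliser of `E` acting with `w q` fixed-point-freely of order five on `E` is an element of
`E` commuting with `w q`, hence trivial. This determines the last relation completely: `WRel φ w 1 1`.
-/

set_option autoImplicit false

namespace Cfsg.Agent.SporRec.Co3DC.Forced

open Cfsg.Agent.SporRec.TwoSp6.Mat Cfsg.Agent.SporRec.TwoSp6.Model Cfsg.Agent.SporRec.TwoSp6.Order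
  Cfsg.Agent.SporRec.TwoSp6.Conj Cfsg.Agent.SporRec.TwoSp6.EFacts Cfsg.Agent.SporRec.Co3DC.EAct
  Cfsg.Agent.SporRec.Co3DC.ExistsW Cfsg.Agent.SporRec.Co3DC.ExistsWRel Cfsg.Agent.SporRec.Co3DC.CutCases

variable {G : Type*} [Group G]

def qW : List ℕ := [2, 0, 3, 2, 0, 4, 3, 1, 2, 5, 4, 3, 2, 0, 6, 5, 4, 3, 1, 2, 3, 7]

/-- image of a `D`-word under conjugation by `w` -/
def tw (u : List ℕ) : List ℕ := tword false u

def Q2 : List ℕ := Co3DC.m2W ++ (tw [2, 6, 4] ++ qW)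
def Q3 : List ℕ := Co3DC.m2W ++ (tw [5, 5, 3, 5] ++ qW)
def Q4 : List ℕ := Co3DC.m2W ++ (tw [4] ++ qW)

theorem c1 : wN qW = wN (tw [6] ++ (Co3DC.nW ++ dword [2, 6, 4])) := by decide +kernel
theorem c2 : wN Q2 = wN (tw [4, 5, 5, 2, 5, 3, 4] ++ (Co3DC.nW ++ dword [5, 5, 3, 5])) := by decide +kernel
theorem c3 : wN Q3 = wN (tw [4, 5, 3, 5, 2, 5] ++ (Co3DC.nW ++ dword [4])) := by decide +kernel
theorem c4 : wN Q4 = wN (Co3DC.sW ++ dword [4, 4]) := by decide +kernel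

/-- the index of `(w q)⁵` for the twist `i` -/
def vals : List ℕ := [0, 1, 12, 13, 2, 3, 14, 15, 6, 7, 10, 11, 4, 5, 8, 9]

/-- the word of `(w q)⁵` -/
def fin5 (i : ℕ) : List ℕ :=
  dword [6] ++ ((ew i ++ Co3DC.mW) ++ (dword [4, 5, 5, 2, 5, 3, 4] ++ ((ew i ++ Co3DC.mW) ++
    (dword [4, 5, 3, 5, 2, 5] ++ ((ew i ++ Co3DC.mW) ++ (Co3DC.sW ++ (tw [4, 4] ++ qW)))))))

theorem c5 : ∀ i < 16, wN (fin5 i) = wN (ew (vals.getD i 0)) := by decide +kernel

theorem vals_lt : ∀ i < 16, vals.getD i 0 < 16 := by decide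

theorem vals_zero : ∀ i < 16, vals.getD i 0 = 0 → i = 0 := by decide

section

variable {φ : M →* G} {w : G} {i : ℕ}

theorem step3 (h : WRel φ w (W (vW false)) (W (ew i))) (P : G) (a b : List ℕ) {Q : List ℕ}
    (hQ : wN Q = wN (tw a ++ (Co3DC.nW ++ dword b))) :
    P * w * φ (W Q) * w =
      P * φ (W (dword a)) * φ (W (ew i ++ Co3DC.mW)) * w * φ (W (Co3DC.m2W ++ tw b)) := by
  have e1 : φ (W Q) = φ (W (tw a)) * φ (W Co3DC.nW) * φ (W (dword b)) := by
    rw [W_eq hQ, W_append, W_append, map_mul, map_mul, mul_assoc]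
  have e2 : φ (W (ew i ++ Co3DC.mW)) = φ (W (ew i) * W Co3DC.mW) := by rw [W_append]
  have e3 : φ (W (Co3DC.m2W ++ tw b)) = φ (W Co3DC.m2W) * φ (W (tw b)) := by rw [W_append, map_mul]
  have ha : φ (W (dword a)) * w = w * φ (W (tw a)) := conj_D h a
  have hb : φ (W (dword b)) * w = w * φ (W (tw b)) := conj_D h b
  rw [e1, e2, e3]
  calc P * w * (φ (W (tw a)) * φ (W Co3DC.nW) * φ (W (dword b))) * w
      = P * (w * φ (W (tw a))) * φ (W Co3DC.nW) * (φ (W (dword b)) * w) := by group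
    _ = P * φ (W (dword a)) * (w * φ (W Co3DC.nW) * w) * φ (W (tw b)) := by rw [hb, ← ha]; group
    _ = _ := by rw [h.hN]; group

theorem step2 (h : WRel φ w (W (vW false)) (W (ew i))) (P : G) (b : List ℕ) {Q : List ℕ}
    (hQ : wN Q = wN (Co3DC.sW ++ dword b)) :
    P * w * φ (W Q) * w = P * φ (W (Co3DC.sW ++ tw b)) := by
  have e1 : φ (W Q) = φ (W Co3DC.sW) * φ (W (dword b)) := by
    rw [W_eq hQ, W_append, map_mul]
  have hb : φ (W (dword b)) * w = w * φ (W (tw b)) := conj_D h b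
  have hs : w * φ (W Co3DC.sW) = φ (W Co3DC.sW) * w⁻¹ := by
    have := h.hS
    calc w * φ (W Co3DC.sW) = w * (φ (W Co3DC.sW) * w) * w⁻¹ := by group
      _ = _ := by rw [this]; group
  rw [e1, W_append, map_mul]
  calc P * w * (φ (W Co3DC.sW) * φ (W (dword b))) * w
      = P * (w * φ (W Co3DC.sW)) * (φ (W (dword b)) * w) := by group
    _ = _ := by rw [hs, hb]; group

/-- `(w q)⁵` -/
theorem pow_five (h : WRel φ w (W (vW false)) (W (ew i))) (hi : i < 16) :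
    w * φ (W qW) * (w * φ (W qW)) * (w * φ (W qW)) * (w * φ (W qW)) * (w * φ (W qW)) =
      ee φ (vals.getD i 0) := by
  have s1 := step3 h 1 [6] [2, 6, 4] c1
  rw [one_mul, one_mul] at s1
  have q2 : φ (W Q2) = φ (W (Co3DC.m2W ++ tw [2, 6, 4])) * φ (W qW) := by
    rw [← map_mul, ← W_append, List.append_assoc]; rfl
  have q3 : φ (W Q3) = φ (W (Co3DC.m2W ++ tw [5, 5, 3, 5])) * φ (W qW) := by
    rw [← map_mul, ← W_append, List.append_assoc]; rfl
  have q4 : φ (W Q4) = φ (W (Co3DC.m2W ++ tw [4])) * φ (W qW) := by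
    rw [← map_mul, ← W_append, List.append_assoc]; rfl
  have s2 := step3 h (φ (W (dword [6])) * φ (W (ew i ++ Co3DC.mW))) [4, 5, 5, 2, 5, 3, 4] [5, 5, 3, 5] c2
  have s3 := step3 h (φ (W (dword [6])) * φ (W (ew i ++ Co3DC.mW)) * φ (W (dword [4, 5, 5, 2, 5, 3, 4])) *
    φ (W (ew i ++ Co3DC.mW))) [4, 5, 3, 5, 2, 5] [4] c3
  have s4 := step2 h (φ (W (dword [6])) * φ (W (ew i ++ Co3DC.mW)) * φ (W (dword [4, 5, 5, 2, 5, 3, 4])) *
    φ (W (ew i ++ Co3DC.mW)) * φ (W (dword [4, 5, 3, 5, 2, 5])) * φ (W (ew i ++ Co3DC.mW))) [4, 4] c4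
  have e5 : ee φ (vals.getD i 0) = φ (W (fin5 i)) := by
    rw [ee_def]
    exact congrArg φ (W_eq (c5 i hi)).symm
  have q1 : φ (W (fin5 i)) =
      φ (W (dword [6])) * φ (W (ew i ++ Co3DC.mW)) * φ (W (dword [4, 5, 5, 2, 5, 3, 4])) *
    φ (W (ew i ++ Co3DC.mW)) * φ (W (dword [4, 5, 3, 5, 2, 5])) * φ (W (ew i ++ Co3DC.mW)) *
      φ (W (Co3DC.sW ++ tw [4, 4])) * φ (W qW) := by
    unfold fin5
    simp only [W_append, map_mul, mul_assoc]
  rw [e5, q1]
  have t1 : w * φ (W qW) * (w * φ (W qW)) =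
      φ (W (dword [6])) * φ (W (ew i ++ Co3DC.mW)) * w * φ (W Q2) := by
    rw [q2]
    calc w * φ (W qW) * (w * φ (W qW)) = w * φ (W qW) * w * φ (W qW) := by group
      _ = _ := by rw [s1]; group
  have t2 : φ (W (dword [6])) * φ (W (ew i ++ Co3DC.mW)) * w * φ (W Q2) * (w * φ (W qW)) =
      φ (W (dword [6])) * φ (W (ew i ++ Co3DC.mW)) * φ (W (dword [4, 5, 5, 2, 5, 3, 4])) *
        φ (W (ew i ++ Co3DC.mW)) * w * φ (W Q3) := by
    rw [q3, ← mul_assoc, s2]; group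
  have t3 : φ (W (dword [6])) * φ (W (ew i ++ Co3DC.mW)) * φ (W (dword [4, 5, 5, 2, 5, 3, 4])) *
        φ (W (ew i ++ Co3DC.mW)) * w * φ (W Q3) * (w * φ (W qW)) =
      φ (W (dword [6])) * φ (W (ew i ++ Co3DC.mW)) * φ (W (dword [4, 5, 5, 2, 5, 3, 4])) *
        φ (W (ew i ++ Co3DC.mW)) * φ (W (dword [4, 5, 3, 5, 2, 5])) * φ (W (ew i ++ Co3DC.mW)) * w * φ (W Q4) := by
    rw [q4, ← mul_assoc, s3]; group
  rw [t1, t2, t3, ← mul_assoc, s4]

/-- `q` acts as `1, 2, 4, 8 ↦ 1, 12, 5, 3`. -/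
theorem chkq : chk (qW, 12, 5, 3) = true := by decide +kernel

theorem fpf : ∀ j < 16, lin (lin 1 12 5 3 2) (lin 1 12 5 3 3) (lin 1 12 5 3 4) (lin 1 12 5 3 8) j = j → j = 0 := by
  decide

theorem act_w (h : WRel φ w (W (vW false)) (W (ew i))) : Act φ w 2 3 4 8 := by
  have conj : ∀ {a b : G}, a * w = w * b → cj w a = b := by
    intro a b hab
    rw [cj_def, mul_assoc, hab, inv_mul_cancel_left]
  have e1 : ee φ 1 = φ (W (dword [0])) := congrArg φ (W_eq (show wN (ew 1) = wN (dword [0]) by decide +kernel))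
  have e2 : ee φ 2 = φ (W (dword [1])) := congrArg φ (W_eq (show wN (ew 2) = wN (dword [1]) by decide +kernel))
  have e2' : ee φ 2 = φ (W (tw [0])) := congrArg φ (W_eq (show wN (ew 2) = wN (tw [0]) by decide +kernel))
  have e3' : ee φ 3 = φ (W (tw [1])) := congrArg φ (W_eq (show wN (ew 3) = wN (tw [1]) by decide +kernel))
  have e4 : ee φ 4 = φ (W (dword [2])) := congrArg φ (W_eq (show wN (ew 4) = wN (dword [2]) by decide +kernel))
  have e4' : ee φ 4 = φ (W (tw [2])) := congrArg φ (W_eq (show wN (ew 4) = wN (tw [2]) by decide +kernel))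
  have e8 : ee φ 8 = φ (W (dword [3])) := congrArg φ (W_eq (show wN (ew 8) = wN (dword [3]) by decide +kernel))
  have e8' : ee φ 8 = φ (W (tw [3])) := congrArg φ (W_eq (show wN (ew 8) = wN (tw [3]) by decide +kernel))
  refine ⟨by norm_num, by norm_num, by norm_num, by norm_num, ?_, ?_, ?_, ?_⟩
  · rw [e2', e1]; exact conj (conj_D h [0])
  · rw [e3', e2]; exact conj (conj_D h [1])
  · conv_lhs => rw [e4]
    rw [e4']; exact conj (conj_D h [2])
  · conv_lhs => rw [e8]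
    rw [e8']; exact conj (conj_D h [3])

/-- **The twist is trivial.** -/
theorem index_zero (H : Hyp φ) (h : WRel φ w (W (vW false)) (W (ew i))) (hi : i < 16) : i = 0 := by
  apply vals_zero i hi
  have P := pow_five h hi
  have Aq : Act φ (φ (W qW)) 1 12 5 3 := act_of_chk φ chkq
  have A := (act_w h).mul Aq
  have hj := vals_lt i hi
  have hc : cj (w * φ (W qW)) (ee φ (vals.getD i 0)) = ee φ (vals.getD i 0) := by
    rw [← P]
    apply cj_of_comm
    group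
  rw [A.all hj] at hc
  exact fpf _ hj (ee_inj H (lin_lt A.ha A.hb A.hc A.hd _) hj hc)

end

/-- **Existence of `w`** (all relations determined): `φ` embeds the model of `2·Sp₆(2)` as the centraliser of `φ z` and
`g0` normalises `E = ⟨z, b, e₁, e₂⟩` and moves `z`. -/
theorem exists_wrel_one {φ : M →* G} (H : Hyp φ) {g0 : G}
    (hn : ∀ i < 16, ∃ j < 16, g0⁻¹ * ee φ i * g0 = ee φ j) (hz : g0⁻¹ * φ z * g0 ≠ φ z) :
    ∃ w : G, WRel φ w 1 1 := by
  obtain ⟨w, i, hi, h⟩ := exists_wrel_eight H hn hz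
  have h0 : i = 0 := index_zero H h (by omega)
  subst h0
  have e : W (ew 0) = 1 := ew_zero
  rw [e] at h
  exact ⟨w, h⟩

end Cfsg.Agent.SporRec.Co3DC.Forced
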