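import Cfsg.Agent.SporRec.Co3DC.Pair

/-!
# Proof checker for double coset enumeration over `M = 2·Sp₆(2)`

`φ : M →* G`, `w : G`, `g : ℕ → G` (representatives of double cosets, `g 0 = 1`, `g 1 = w`).
* edge fact `(i, c, m, k, d)`: `w * φ c * g i = φ m * g k * φ d`;
* stabiliser fact `(k, a, b)`: `φ a * g k = g k * φ b`.
All elements of `M` are given by pair codes.  `run` derives new facts from old ones.
-/

set_option autoImplicit false

namespace Cfsg.Agent.SporRec.Co3DC.Chk

open Cfsg.Agent.SporRec.TwoSp6.Mat Cfsg.Agent.SporRec.TwoSp6.Model Cfsg.Agent.Lib.PackMat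
  Cfsg.Agent.SporRec.Co3DC

/-- edge fact -/
structure EF where
  i : ℕ
  c : ℕ
  m : ℕ
  k : ℕ
  d : ℕ

/-- stabiliser fact -/
structure SF where
  k : ℕ
  a : ℕ
  b : ℕ

/-- adjusted edge fact -/
structure Adj where
  f : ℕ
  L : List ℕ
  R : List ℕ

/-- one derivation step -/
inductive Step where
  | rev (p : Adj)
  | line (p q : Adj)
  | tri (p q : Adj)
  | stab (p q : Adj)

/-- constants -/
structure Cst where
  s : ℕ
  n : ℕ
  em : ℕ
  m2 : ℕ

/-! ### kernel functions -/

/-- `n`-th element of a list -/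
noncomputable def nthK {α : Type} (l : List α) : ℕ → (α → Bool) → Bool :=
  List.rec (motive := fun _ => ℕ → (α → Bool) → Bool) (fun _ _ => false)
    (fun a _ ih n K => Nat.rec (K a) (fun m _ => ih m K) n) l

/-- signed stabiliser fact -/
noncomputable def getS (S : List SF) (l : ℕ) (K : ℕ → ℕ → ℕ → Bool) : Bool :=
  force (Nat.shiftRight l 1) fun n => nthK S n fun s =>
    cond (Nat.beq (Nat.land l 1) 0) (K s.k s.a s.b) (force (swapP s.a) fun a => force (swapP s.b) fun b => K s.k a b)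

/-- left adjustment -/
noncomputable def adjL (S : List SF) (ls : List ℕ) : ℕ → ℕ → (ℕ → ℕ → Bool) → Bool :=
  List.rec (motive := fun _ => ℕ → ℕ → (ℕ → ℕ → Bool) → Bool) (fun c m K => K c m)
    (fun l _ ih c m K => getS S l fun ko a b => cond (Nat.beq ko 1)
      (force (mulP b c) fun c => force (mulP a m) fun m => ih c m K) false) ls

/-- right adjustment -/
noncomputable def adjR (S : List SF) (i : ℕ) (ls : List ℕ) : ℕ → ℕ → (ℕ → ℕ → Bool) → Bool :=
  List.rec (motive := fun _ => ℕ → ℕ → (ℕ → ℕ → Bool) → Bool) (fun c d K => K c d)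
    (fun l _ ih c d K => getS S l fun ko a b => cond (Nat.beq ko i)
      (force (mulP c a) fun c => force (mulP d b) fun d => ih c d K) false) ls

/-- adjusted edge fact -/
noncomputable def adj (E : List EF) (S : List SF) (p : Adj) (K : ℕ → ℕ → ℕ → ℕ → ℕ → Bool) : Bool :=
  nthK E p.f fun f => adjL S p.L f.c f.m fun c m => adjR S f.i p.R c f.d fun c d => K f.i c m f.k d

/-- one step -/
noncomputable def step (C : Cst) (E : List EF) (S : List SF) (st : Step) (K : List EF → List SF → Bool) : Bool :=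
  match st with
  | .rev p => adj E S p fun i c m k d =>
      force (mulP C.s m) fun c' => force (mulP C.s c) fun m' => force (swapP d) fun d' => K (⟨k, c', m', i, d'⟩ :: E) S
  | .line p q => adj E S p fun i c m k d => adj E S q fun i2 c2 m2 k2 d2 =>
      cond (Nat.beq i2 i) (cond (Nat.beq c2 (mulP C.s c))
        (force (mulP (swapP C.s) m2) fun m' => force (mulP d2 (swapP d)) fun d' => K (⟨k, m, m', k2, d'⟩ :: E) S)
        false) false
  | .tri p q => adj E S p fun i c m k d => adj E S q fun i2 c2 m2 k2 d2 =>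
      cond (Nat.beq i2 i) (cond (Nat.beq c2 (mulP C.m2 c))
        (force (mulP C.n m) fun c' => force (mulP C.em m2) fun m' => force (mulP d2 (swapP d)) fun d' =>
          K (⟨k, c', m', k2, d'⟩ :: E) S) false) false
  | .stab p q => adj E S p fun i c m k d => adj E S q fun i2 c2 m2 k2 d2 =>
      cond (Nat.beq i2 i) (cond (Nat.beq k2 k) (cond (Nat.beq c2 c)
        (force (mulP (swapP m2) m) fun a => force (mulP d2 (swapP d)) fun b => K E (⟨k, a, b⟩ :: S))
        false) false) false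

/-- all steps -/
noncomputable def run (C : Cst) (sts : List Step) : List EF → List SF → (List EF → List SF → Bool) → Bool :=
  List.rec (motive := fun _ => List EF → List SF → (List EF → List SF → Bool) → Bool) (fun E S K => K E S)
    (fun st _ ih E S K => step C E S st fun E' S' => ih E' S' K) sts

/-! ### soundness -/

theorem nthK_sound {α : Type} {l : List α} {n : ℕ} {K : α → Bool} (h : nthK l n K = true) :
    ∃ a ∈ l, K a = true := by
  induction l generalizing n with
  | nil => exact absurd (show false = true from h) (by simp)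
  | cons a l ih =>
    cases n with
    | zero => exact ⟨a, List.mem_cons_self .., h⟩
    | succ n =>
      obtain ⟨b, hb, hK⟩ := ih (show nthK l n K = true from h)
      exact ⟨b, List.mem_cons_of_mem _ hb, hK⟩

theorem cond_true_of {b c : Bool} (h : cond b c false = true) : b = true ∧ c = true := by
  cases b
  · exact absurd h (by simp)
  · exact ⟨rfl, h⟩

/-! ### group algebra -/

section Alg

variable {G : Type*} [Group G] {w s n em m2 c c2 m m' d d2 gi gk gl a b : G}

theorem alg_rev (r : s * w = w⁻¹ * s) (e : w * c * gi = m * gk * d) : w * (s * m) * gk = s * c * gi * d⁻¹ := by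
  have hg : gk = m⁻¹ * (w * c * gi) * d⁻¹ := by rw [e]; group
  rw [hg]
  calc w * (s * m) * (m⁻¹ * (w * c * gi) * d⁻¹) = w * (s * w) * c * gi * d⁻¹ := by group
    _ = _ := by rw [r]; group

theorem alg_line (r : s * w = w⁻¹ * s) (r3 : w * w * w = 1) (e : w * c * gi = m * gk * d)
    (e2 : w * (s * c) * gi = m' * gl * d2) : w * m * gk = s⁻¹ * m' * gl * (d2 * d⁻¹) := by
  have hg : gk = m⁻¹ * (w * c * gi) * d⁻¹ := by rw [e]; group
  have h2 : m' * gl = w * (s * c) * gi * d2⁻¹ := by rw [e2]; group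
  have hws : w * s = s * w⁻¹ := by
    calc w * s = w * (s * w) * w⁻¹ := by group
      _ = _ := by rw [r]; group
  calc w * m * gk = w * w * w * (w⁻¹ * c) * gi * d⁻¹ := by rw [hg]; group
    _ = s⁻¹ * (s * w⁻¹) * c * gi * d⁻¹ := by rw [r3]; group
    _ = s⁻¹ * (m' * gl) * (d2 * d⁻¹) := by rw [← hws, h2]; group
    _ = _ := by group

theorem alg_tri (r : w * n * w = em * w * m2) (e : w * c * gi = m * gk * d)
    (e2 : w * (m2 * c) * gi = m' * gl * d2) : w * (n * m) * gk = em * m' * gl * (d2 * d⁻¹) := by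
  have hg : gk = m⁻¹ * (w * c * gi) * d⁻¹ := by rw [e]; group
  have h2 : m' * gl = w * (m2 * c) * gi * d2⁻¹ := by rw [e2]; group
  calc w * (n * m) * gk = (w * n * w) * c * gi * d⁻¹ := by rw [hg]; group
    _ = em * (m' * gl) * (d2 * d⁻¹) := by rw [r, h2]; group
    _ = _ := by group

theorem alg_stab (e : w * c * gi = m * gk * d) (e2 : w * c * gi = m' * gk * d2) :
    m'⁻¹ * m * gk = gk * (d2 * d⁻¹) := by
  have h1 : m * gk = w * c * gi * d⁻¹ := by rw [e]; group
  calc m'⁻¹ * m * gk = m'⁻¹ * (m * gk) := by group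
    _ = m'⁻¹ * (w * c * gi) * d⁻¹ := by rw [h1]; group
    _ = _ := by rw [e2]; group

theorem alg_left (e : a * w = w * b) (e2 : w * c * gi = m * gk * d) : w * (b * c) * gi = a * m * gk * d := by
  calc w * (b * c) * gi = (w * b) * c * gi := by group
    _ = a * (w * c * gi) := by rw [← e]; group
    _ = _ := by rw [e2]; group

theorem alg_right (e : a * gi = gi * b) (e2 : w * c * gi = m * gk * d) : w * (c * a) * gi = m * gk * (d * b) := by
  calc w * (c * a) * gi = w * c * (a * gi) := by group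
    _ = (w * c * gi) * b := by rw [e]; group
    _ = _ := by rw [e2]; group

theorem alg_inv (e : a * gk = gk * b) : a⁻¹ * gk = gk * b⁻¹ := by
  calc a⁻¹ * gk = a⁻¹ * (gk * b) * b⁻¹ := by group
    _ = _ := by rw [← e]; group

end Alg

section Sem

variable {G : Type*} [Group G] (φ : M →* G) (w : G) (g : ℕ → G)

/-- meaning of an edge fact -/
def EOK (i c m k d : ℕ) : Prop :=
  ∃ c' m' d' : M, pc c' = c ∧ pc m' = m ∧ pc d' = d ∧ w * φ c' * g i = φ m' * g k * φ d'

/-- meaning of a stabiliser fact -/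
def SOK (k a b : ℕ) : Prop := ∃ a' b' : M, pc a' = a ∧ pc b' = b ∧ φ a' * g k = g k * φ b'

/-- all facts are valid -/
def AllE (E : List EF) : Prop := ∀ f ∈ E, EOK φ w g f.i f.c f.m f.k f.d
def AllS (S : List SF) : Prop := ∀ s ∈ S, SOK φ g s.k s.a s.b

/-- meaning of the constants -/
structure COK (C : Cst) : Prop where
  h : ∃ s n em m2 : M, pc s = C.s ∧ pc n = C.n ∧ pc em = C.em ∧ pc m2 = C.m2 ∧
    φ s * w = w⁻¹ * φ s ∧ w * φ n * w = φ em * w * φ m2 ∧ w * w * w = 1

variable {φ w g}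

theorem SOK.inv {k a b : ℕ} (h : SOK φ g k a b) : SOK φ g k (swapP a) (swapP b) := by
  obtain ⟨a', b', rfl, rfl, e⟩ := h
  refine ⟨a'⁻¹, b'⁻¹, pc_inv _, pc_inv _, ?_⟩
  rw [map_inv, map_inv]
  exact alg_inv e

theorem getS_eq (S : List SF) (l : ℕ) (K : ℕ → ℕ → ℕ → Bool) : getS S l K =
    nthK S (Nat.shiftRight l 1) fun s =>
      cond (Nat.beq (Nat.land l 1) 0) (K s.k s.a s.b) (K s.k (swapP s.a) (swapP s.b)) := rfl

theorem getS_sound {S : List SF} (hS : AllS φ g S) {l : ℕ} {K : ℕ → ℕ → ℕ → Bool} (h : getS S l K = true) :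
    ∃ k a b, SOK φ g k a b ∧ K k a b = true := by
  rw [getS_eq] at h
  obtain ⟨s, hs, h⟩ := nthK_sound h
  cases hl : Nat.beq (Nat.land l 1) 0 with
  | true =>
    rw [hl, cond_true] at h
    exact ⟨_, _, _, hS s hs, h⟩
  | false =>
    rw [hl, cond_false] at h
    exact ⟨_, _, _, (hS s hs).inv, h⟩

theorem adjL_nil (S : List SF) (c m : ℕ) (K : ℕ → ℕ → Bool) : adjL S [] c m K = K c m := rfl
theorem adjL_cons (S : List SF) (l : ℕ) (ls : List ℕ) (c m : ℕ) (K : ℕ → ℕ → Bool) :
    adjL S (l :: ls) c m K = getS S l fun ko a b => cond (Nat.beq ko 1)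
      (adjL S ls (mulP b c) (mulP a m) K) false := rfl
theorem adjR_nil (S : List SF) (i c d : ℕ) (K : ℕ → ℕ → Bool) : adjR S i [] c d K = K c d := rfl
theorem adjR_cons (S : List SF) (i l : ℕ) (ls : List ℕ) (c d : ℕ) (K : ℕ → ℕ → Bool) :
    adjR S i (l :: ls) c d K = getS S l fun ko a b => cond (Nat.beq ko i)
      (adjR S i ls (mulP c a) (mulP d b) K) false := rfl

theorem adjL_sound (h1 : g 1 = w) {S : List SF} (hS : AllS φ g S) {i k d : ℕ} (ls : List ℕ) :
    ∀ {c m : ℕ} {K : ℕ → ℕ → Bool}, EOK φ w g i c m k d → adjL S ls c m K = true →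
      ∃ c' m', EOK φ w g i c' m' k d ∧ K c' m' = true := by
  induction ls with
  | nil => exact fun hE h => ⟨_, _, hE, h⟩
  | cons l ls ih =>
    intro c m K hE h
    rw [adjL_cons] at h
    obtain ⟨ko, a, b, hs, h⟩ := getS_sound hS h
    obtain ⟨hk, h⟩ := cond_true_of h
    obtain rfl := Nat.eq_of_beq_eq_true hk
    refine ih ?_ h
    obtain ⟨c', m', d', rfl, rfl, hd, e⟩ := hE
    obtain ⟨a', b', rfl, rfl, e2⟩ := hs
    refine ⟨b' * c', a' * m', d', pc_mul _ _, pc_mul _ _, hd, ?_⟩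
    rw [h1] at e2
    rw [map_mul, map_mul]
    exact alg_left e2 e

theorem adjR_sound {S : List SF} (hS : AllS φ g S) {i m k : ℕ} (ls : List ℕ) :
    ∀ {c d : ℕ} {K : ℕ → ℕ → Bool}, EOK φ w g i c m k d → adjR S i ls c d K = true →
      ∃ c' d', EOK φ w g i c' m k d' ∧ K c' d' = true := by
  induction ls with
  | nil => exact fun hE h => ⟨_, _, hE, h⟩
  | cons l ls ih =>
    intro c d K hE h
    rw [adjR_cons] at h
    obtain ⟨ko, a, b, hs, h⟩ := getS_sound hS h
    obtain ⟨hk, h⟩ := cond_true_of h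
    obtain rfl := Nat.eq_of_beq_eq_true hk
    refine ih ?_ h
    obtain ⟨c', m', d', rfl, hm, rfl, e⟩ := hE
    obtain ⟨a', b', rfl, rfl, e2⟩ := hs
    refine ⟨c' * a', m', d' * b', pc_mul _ _, hm, pc_mul _ _, ?_⟩
    rw [map_mul, map_mul]
    exact alg_right e2 e

theorem adj_sound (h1 : g 1 = w) {E : List EF} {S : List SF} (hE : AllE φ w g E) (hS : AllS φ g S) {p : Adj}
    {K : ℕ → ℕ → ℕ → ℕ → ℕ → Bool} (h : adj E S p K = true) :
    ∃ i c m k d, EOK φ w g i c m k d ∧ K i c m k d = true := by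
  unfold adj at h
  obtain ⟨f, hf, h⟩ := nthK_sound h
  obtain ⟨c, m, e1, h⟩ := adjL_sound h1 hS p.L (hE f hf) h
  obtain ⟨c, d, e2, h⟩ := adjR_sound hS p.R e1 h
  exact ⟨_, _, _, _, _, e2, h⟩

theorem step_rev (C : Cst) (E : List EF) (S : List SF) (p : Adj) (K : List EF → List SF → Bool) :
    step C E S (.rev p) K = adj E S p fun i c m k d => K (⟨k, mulP C.s m, mulP C.s c, i, swapP d⟩ :: E) S := rfl
theorem step_line (C : Cst) (E : List EF) (S : List SF) (p q : Adj) (K : List EF → List SF → Bool) :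
    step C E S (.line p q) K = adj E S p fun i c m k d => adj E S q fun i2 c2 m2 k2 d2 =>
      cond (Nat.beq i2 i) (cond (Nat.beq c2 (mulP C.s c))
        (K (⟨k, m, mulP (swapP C.s) m2, k2, mulP d2 (swapP d)⟩ :: E) S) false) false := rfl
theorem step_tri (C : Cst) (E : List EF) (S : List SF) (p q : Adj) (K : List EF → List SF → Bool) :
    step C E S (.tri p q) K = adj E S p fun i c m k d => adj E S q fun i2 c2 m2 k2 d2 =>
      cond (Nat.beq i2 i) (cond (Nat.beq c2 (mulP C.m2 c))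
        (K (⟨k, mulP C.n m, mulP C.em m2, k2, mulP d2 (swapP d)⟩ :: E) S) false) false := rfl
theorem step_stab (C : Cst) (E : List EF) (S : List SF) (p q : Adj) (K : List EF → List SF → Bool) :
    step C E S (.stab p q) K = adj E S p fun i c m k d => adj E S q fun i2 c2 m2 k2 d2 =>
      cond (Nat.beq i2 i) (cond (Nat.beq k2 k) (cond (Nat.beq c2 c)
        (K E (⟨k, mulP (swapP m2) m, mulP d2 (swapP d)⟩ :: S)) false) false) false := rfl

theorem AllE.cons {E : List EF} (hE : AllE φ w g E) {i c m k d : ℕ} (h : EOK φ w g i c m k d) :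
    AllE φ w g (⟨i, c, m, k, d⟩ :: E) := by
  intro f hf
  rcases List.mem_cons.1 hf with rfl | hf
  · exact h
  · exact hE f hf

theorem AllS.cons {S : List SF} (hS : AllS φ g S) {k a b : ℕ} (h : SOK φ g k a b) :
    AllS φ g (⟨k, a, b⟩ :: S) := by
  intro f hf
  rcases List.mem_cons.1 hf with rfl | hf
  · exact h
  · exact hS f hf

theorem step_sound (h1 : g 1 = w) {C : Cst} (hC : COK φ w C) {E : List EF} {S : List SF} (hE : AllE φ w g E)
    (hS : AllS φ g S) {st : Step} {K : List EF → List SF → Bool} (h : step C E S st K = true) :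
    ∃ E' S', AllE φ w g E' ∧ AllS φ g S' ∧ K E' S' = true := by
  obtain ⟨⟨s, n, em, m2, hs, hn, hem, hm2, r1, r2, r3⟩⟩ := hC
  cases st with
  | rev p =>
    rw [step_rev] at h
    obtain ⟨i, c, m, k, d, e, h⟩ := adj_sound h1 hE hS h
    refine ⟨_, _, hE.cons ?_, hS, h⟩
    obtain ⟨c', m', d', rfl, rfl, rfl, e⟩ := e
    refine ⟨s * m', s * c', d'⁻¹, ?_, ?_, pc_inv _, ?_⟩
    · rw [pc_mul, hs]
    · rw [pc_mul, hs]
    · rw [map_inv, map_mul, map_mul]
      exact alg_rev r1 e
  | line p q =>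
    rw [step_line] at h
    obtain ⟨i, c, m, k, d, e, h⟩ := adj_sound h1 hE hS h
    obtain ⟨i2, c2, m2', k2, d2, e2, h⟩ := adj_sound h1 hE hS h
    obtain ⟨hi, hx⟩ := cond_true_of h
    obtain ⟨hc, hy⟩ := cond_true_of hx
    have hi' := Nat.eq_of_beq_eq_true hi
    have hc' := Nat.eq_of_beq_eq_true hc
    clear hi hc h hx
    subst hi'
    refine ⟨_, _, hE.cons ?_, hS, hy⟩
    clear hy
    obtain ⟨c', m', d', rfl, rfl, rfl, e⟩ := e
    obtain ⟨c'', m'', d'', hc2, rfl, rfl, e2⟩ := e2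
    rw [hc'] at hc2
    rw [← hs, ← pc_mul, pc_inj] at hc2
    subst hc2
    refine ⟨m', s⁻¹ * m'', d'' * d'⁻¹, rfl, ?_, ?_, ?_⟩
    · rw [pc_mul, pc_inv, hs]
    · rw [pc_mul, pc_inv]
    · rw [map_mul, map_mul, map_inv, map_inv]
      rw [map_mul] at e2
      exact alg_line r1 r3 e e2
  | tri p q =>
    rw [step_tri] at h
    obtain ⟨i, c, m, k, d, e, h⟩ := adj_sound h1 hE hS h
    obtain ⟨i2, c2, m2', k2, d2, e2, h⟩ := adj_sound h1 hE hS h
    obtain ⟨hi, hx⟩ := cond_true_of h
    obtain ⟨hc, hy⟩ := cond_true_of hx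
    have hi' := Nat.eq_of_beq_eq_true hi
    have hc' := Nat.eq_of_beq_eq_true hc
    clear hi hc h hx
    subst hi'
    refine ⟨_, _, hE.cons ?_, hS, hy⟩
    clear hy
    obtain ⟨c', m', d', rfl, rfl, rfl, e⟩ := e
    obtain ⟨c'', m'', d'', hc2, rfl, rfl, e2⟩ := e2
    rw [hc'] at hc2
    rw [← hm2, ← pc_mul, pc_inj] at hc2
    subst hc2
    refine ⟨n * m', em * m'', d'' * d'⁻¹, ?_, ?_, ?_, ?_⟩
    · rw [pc_mul, hn]
    · rw [pc_mul, hem]
    · rw [pc_mul, pc_inv]
    · rw [map_mul, map_mul, map_mul, map_inv]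
      rw [map_mul] at e2
      exact alg_tri r2 e e2
  | stab p q =>
    rw [step_stab] at h
    obtain ⟨i, c, m, k, d, e, h⟩ := adj_sound h1 hE hS h
    obtain ⟨i2, c2, m2', k2, d2, e2, h⟩ := adj_sound h1 hE hS h
    obtain ⟨hi, hx⟩ := cond_true_of h
    obtain ⟨hk, hx'⟩ := cond_true_of hx
    obtain ⟨hc, hy⟩ := cond_true_of hx'
    have hi' := Nat.eq_of_beq_eq_true hi
    have hk' := Nat.eq_of_beq_eq_true hk
    have hc' := Nat.eq_of_beq_eq_true hc
    clear hi hc hk h hx hx'
    subst hi'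
    subst hk'
    refine ⟨_, _, hE, hS.cons ?_, hy⟩
    clear hy
    obtain ⟨c', m', d', rfl, rfl, rfl, e⟩ := e
    obtain ⟨c'', m'', d'', hc2, rfl, rfl, e2⟩ := e2
    rw [hc'] at hc2
    rw [pc_inj] at hc2
    subst hc2
    refine ⟨m''⁻¹ * m', d'' * d'⁻¹, ?_, ?_, ?_⟩
    · rw [pc_mul, pc_inv]
    · rw [pc_mul, pc_inv]
    · rw [map_mul, map_mul, map_inv, map_inv]
      exact alg_stab e e2

theorem run_nil (C : Cst) (E : List EF) (S : List SF) (K : List EF → List SF → Bool) : run C [] E S K = K E S := rfl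
theorem run_cons (C : Cst) (st : Step) (sts : List Step) (E : List EF) (S : List SF) (K : List EF → List SF → Bool) :
    run C (st :: sts) E S K = step C E S st fun E' S' => run C sts E' S' K := rfl

/-- **Soundness of derivations.** -/
theorem run_sound (h1 : g 1 = w) {C : Cst} (hC : COK φ w C) (sts : List Step) :
    ∀ {E : List EF} {S : List SF} {K : List EF → List SF → Bool}, AllE φ w g E → AllS φ g S →
      run C sts E S K = true → ∃ E' S', AllE φ w g E' ∧ AllS φ g S' ∧ K E' S' = true := by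
  induction sts with
  | nil => exact fun hE hS h => ⟨_, _, hE, hS, h⟩
  | cons st sts ih =>
    intro E S K hE hS h
    rw [run_cons] at h
    obtain ⟨E', S', hE', hS', h⟩ := step_sound h1 hC hE hS h
    exact ih hE' hS' h

end Sem

end Cfsg.Agent.SporRec.Co3DC.Chk
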