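import Cfsg.Agent.SporRec.Co3DC.Final

/-!
# Orders of subgroups of the model by enumeration, and the count of double cosets
-/

set_option autoImplicit false
set_option exponentiation.threshold 2000

namespace Cfsg.Agent.SporRec.Co3DC.Count

open Cfsg.Agent.SporRec.TwoSp6.Mat Cfsg.Agent.SporRec.TwoSp6.Model Cfsg.Agent.Lib.PackMat
  Cfsg.Agent.SporRec.Co3DC Cfsg.Agent.SporRec.Co3DC.Chk Cfsg.Agent.SporRec.Co3DC.Final

attribute [local irreducible] wP pc mulP swapP mulN

/-! ### enumeration of a subgroup -/

/-- drop the first `n` elements -/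
noncomputable def dropK (n : ℕ) : List ℕ → List ℕ := Nat.rec (motive := fun _ => List ℕ → List ℕ) (fun l => l)
  (fun _ ih l => ih (List.rec (motive := fun _ => List ℕ) [] (fun _ t _ => t) l)) n

theorem mem_of_mem_dropK {n : ℕ} : ∀ {l : List ℕ} {a : ℕ}, a ∈ dropK n l → a ∈ l := by
  induction n with
  | zero => exact fun h => h
  | succ n ih =>
    intro l a h
    have h' : a ∈ dropK n (List.rec (motive := fun _ => List ℕ) [] (fun _ t _ => t) l) := h
    have h2 := ih h'
    cases l with
    | nil => exact h2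
    | cons b l => exact List.mem_cons_of_mem _ h2

/-- Depth first enumeration: instruction `8 * pop + gen`; the visited elements have distinct residues modulo `P`. -/
noncomputable def enum (P : ℕ) (gs : List ℕ) (l : List ℕ) : List ℕ → ℕ → Bool :=
  List.rec (motive := fun _ => List ℕ → ℕ → Bool) (fun _ _ => true)
    (fun n _ ih st mask => nthK (dropK (Nat.shiftRight n 3) st) 0 fun y => nthK gs (Nat.land n 7) fun a =>
      force (mulN y a) fun y' => force (Nat.mod y' P) fun r =>
        cond (Nat.beq (Nat.land (Nat.shiftRight mask r) 1) 0)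
          (force (Nat.lor mask (Nat.shiftLeft 1 r)) fun mask => ih (y' :: dropK (Nat.shiftRight n 3) st) mask)
          false) l

theorem enum_cons (P : ℕ) (gs : List ℕ) (n : ℕ) (l st : List ℕ) (mask : ℕ) :
    enum P gs (n :: l) st mask =
      nthK (dropK (Nat.shiftRight n 3) st) 0 fun y => nthK gs (Nat.land n 7) fun a =>
        cond (Nat.beq (Nat.land (Nat.shiftRight mask (Nat.mod (mulN y a) P)) 1) 0)
          (enum P gs l (mulN y a :: dropK (Nat.shiftRight n 3) st)
            (Nat.lor mask (Nat.shiftLeft 1 (Nat.mod (mulN y a) P)))) false := rfl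

theorem testBit_false_of_land {m i : ℕ} (h : Nat.beq (Nat.land (Nat.shiftRight m i) 1) 0 = true) :
    m.testBit i = false := by
  have h1 : (m >>> i) &&& 1 = 0 := Nat.eq_of_beq_eq_true h
  rw [Nat.testBit, Nat.and_comm, h1]
  rfl

theorem testBit_lor_shl {mask r i : ℕ} :
    (Nat.lor mask (Nat.shiftLeft 1 r)).testBit i = true ↔ mask.testBit i = true ∨ i = r := by
  change (mask ||| (1 <<< r)).testBit i = true ↔ _
  rw [Nat.testBit_lor, Bool.or_eq_true, Nat.one_shiftLeft, Nat.testBit_two_pow]
  constructor
  · rintro (h | h)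
    · exact Or.inl h
    · exact Or.inr (by simpa [eq_comm] using h)
  · rintro (h | h)
    · exact Or.inl h
    · exact Or.inr (by simpa [eq_comm] using h)

instance : Finite M := inferInstance

theorem enum_sound (K : Subgroup M) {P : ℕ} {gs : List ℕ} (hgs : ∀ c ∈ gs, ∃ a ∈ K, cd a = c) (l : List ℕ) :
    ∀ {st : List ℕ} {mask : ℕ} (T : Finset M), (∀ y ∈ st, ∃ a ∈ K, cd a = y) →
      (∀ a ∈ T, a ∈ K ∧ mask.testBit (cd a % P) = true) → enum P gs l st mask = true →
      T.card + l.length ≤ Nat.card K := by
  induction l with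
  | nil =>
    intro st mask T _ hT _
    have hinj : Function.Injective fun a : T => (⟨a.1, (hT a.1 a.2).1⟩ : K) := by
      intro a b h
      exact Subtype.ext (congrArg (fun x : K => (x : M)) h)
    have := Nat.card_le_card_of_injective _ hinj
    simpa using this
  | cons n l ih =>
    classical
    intro st mask T hst hT h
    rw [enum_cons] at h
    obtain ⟨y, hy, h⟩ := nthK_sound h
    obtain ⟨c, hc, h⟩ := nthK_sound h
    obtain ⟨hbit, hrest⟩ := cond_true_of h
    obtain ⟨a, ha, hay⟩ := hst y (mem_of_mem_dropK hy)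
    obtain ⟨b, hb, hbc⟩ := hgs c hc
    have hab : cd (a * b) = mulN y c := by rw [cd_mul, hay, hbc]
    have hnb := testBit_false_of_land hbit
    have hnot : a * b ∉ T := by
      intro hmem
      have := (hT _ hmem).2
      rw [hab] at this
      have h3 : mask.testBit (mulN y c % P) = false := hnb
      rw [h3] at this
      exact absurd this (by simp)
    have h4 := ih (insert (a * b) T) ?_ ?_ hrest
    · rw [Finset.card_insert_of_notMem hnot] at h4
      rw [List.length_cons]; omega
    · intro y' hy'
      rcases List.mem_cons.1 hy' with rfl | hy'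
      · exact ⟨a * b, mul_mem ha hb, hab⟩
      · exact hst y' (mem_of_mem_dropK hy')
    · intro x hx
      rcases Finset.mem_insert.1 hx with rfl | hx
      · refine ⟨mul_mem ha hb, ?_⟩
        rw [testBit_lor_shl, hab]
        exact Or.inr rfl
      · exact ⟨(hT x hx).1, testBit_lor_shl.2 (Or.inl (hT x hx).2)⟩

/-- start of the enumeration -/
theorem card_ge (K : Subgroup M) {P : ℕ} {gs : List ℕ} (hgs : ∀ c ∈ gs, ∃ a ∈ K, cd a = c) (l : List ℕ)
    (h : enum P gs l [oneN] (Nat.shiftLeft 1 (Nat.mod oneN P)) = true) : l.length + 1 ≤ Nat.card K := by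
  classical
  have := enum_sound K hgs l (st := [oneN]) (mask := Nat.shiftLeft 1 (Nat.mod oneN P)) {1} ?_ ?_ h
  · rw [Finset.card_singleton] at this; omega
  · intro y hy
    rw [List.mem_singleton] at hy
    exact ⟨1, one_mem _, by rw [cd_one, hy]⟩
  · intro a ha
    rw [Finset.mem_singleton] at ha
    subst ha
    refine ⟨one_mem _, ?_⟩
    change (1 <<< (oneN % P)).testBit (cd 1 % P) = true
    rw [Nat.one_shiftLeft, Nat.testBit_two_pow, cd_one]
    simp

/-! ### generators taken from the facts -/

/-- the codes `lo a` of the facts with given numbers, all belonging to double coset `k` -/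
noncomputable def gensA (S : List SF) (k : ℕ) (l : List ℕ) : List ℕ → (List ℕ → Bool) → Bool :=
  List.rec (motive := fun _ => List ℕ → (List ℕ → Bool) → Bool) (fun acc K => K acc)
    (fun n _ ih acc K => nthK S n fun s => cond (Nat.beq s.k k) (force (lo s.a) fun a => ih (a :: acc) K) false) l

/-- the codes `lo b` of the facts with given numbers, all belonging to double coset `1` and commuting with `B` -/
noncomputable def gensB (S : List SF) (Bc : ℕ) (l : List ℕ) : List ℕ → (List ℕ → Bool) → Bool :=
  List.rec (motive := fun _ => List ℕ → (List ℕ → Bool) → Bool) (fun acc K => K acc)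
    (fun n _ ih acc K => nthK S n fun s => cond (Nat.beq s.k 1) (force (lo s.b) fun b =>
      cond (Nat.beq (mulN b Bc) (mulN Bc b)) (ih (b :: acc) K) false) false) l

section Sem

variable {G : Type*} [Group G] {φ : M →* G} {w : G} {g : ℕ → G}

/-- left stabiliser of the coset `g k * φ M` -/
def KG (φ : M →* G) (g : ℕ → G) (k : ℕ) : Subgroup M where
  carrier := {a | ∃ b : M, φ a * g k = g k * φ b}
  mul_mem' {a a'} h h' := by
    obtain ⟨b, hb⟩ := h
    obtain ⟨b', hb'⟩ := h'
    exact ⟨b * b', by rw [map_mul, map_mul, mul_assoc, hb', ← mul_assoc, hb, mul_assoc]⟩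
  one_mem' := ⟨1, by rw [map_one, one_mul, mul_one]⟩
  inv_mem' {a} h := by
    obtain ⟨b, hb⟩ := h
    exact ⟨b⁻¹, by rw [map_inv, map_inv]; exact alg_inv hb⟩

theorem mem_KG {k : ℕ} {a : M} : a ∈ KG φ g k ↔ ∃ b : M, φ a * g k = g k * φ b := Iff.rfl

/-- elements `d` commuting with `B` and with `w * φ d ∈ φ M * w` -/
def NB (φ : M →* G) (w : G) : Subgroup M where
  carrier := {d | d * B = B * d ∧ ∃ a : M, φ a * w = w * φ d}
  mul_mem' {d d'} h h' := by
    obtain ⟨h1, a, ha⟩ := h
    obtain ⟨h2, a', ha'⟩ := h'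
    refine ⟨by rw [mul_assoc, h2, ← mul_assoc, h1, mul_assoc], a * a', ?_⟩
    rw [map_mul, map_mul, mul_assoc, ha', ← mul_assoc, ha, mul_assoc]
  one_mem' := ⟨by rw [one_mul, mul_one], 1, by rw [map_one, one_mul, mul_one]⟩
  inv_mem' {d} h := by
    obtain ⟨h1, a, ha⟩ := h
    refine ⟨?_, a⁻¹, by rw [map_inv, map_inv]; exact alg_inv ha⟩
    rw [inv_mul_eq_iff_eq_mul, ← mul_assoc, h1, mul_assoc, mul_inv_cancel, mul_one]

theorem mem_NB {d : M} : d ∈ NB φ w ↔ d * B = B * d ∧ ∃ a : M, φ a * w = w * φ d := Iff.rfl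

theorem gensA_cons (S : List SF) (k n : ℕ) (l acc : List ℕ) (K : List ℕ → Bool) :
    gensA S k (n :: l) acc K = nthK S n fun s => cond (Nat.beq s.k k) (gensA S k l (lo s.a :: acc) K) false := rfl

theorem gensB_cons (S : List SF) (Bc n : ℕ) (l acc : List ℕ) (K : List ℕ → Bool) :
    gensB S Bc (n :: l) acc K = nthK S n fun s => cond (Nat.beq s.k 1)
      (cond (Nat.beq (mulN (lo s.b) Bc) (mulN Bc (lo s.b))) (gensB S Bc l (lo s.b :: acc) K) false) false := rfl

theorem gensA_sound {S : List SF} (hS : AllS φ g S) {k : ℕ} (l : List ℕ) : ∀ {acc : List ℕ} {K : List ℕ → Bool},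
    (∀ c ∈ acc, ∃ a ∈ KG φ g k, cd a = c) → gensA S k l acc K = true →
    ∃ gs, (∀ c ∈ gs, ∃ a ∈ KG φ g k, cd a = c) ∧ K gs = true := by
  induction l with
  | nil => exact fun ha h => ⟨_, ha, h⟩
  | cons n l ih =>
    intro acc K ha h
    rw [gensA_cons] at h
    obtain ⟨s, hs, h⟩ := nthK_sound h
    obtain ⟨hk, h2⟩ := cond_true_of h
    refine ih ?_ h2
    intro c hc
    rcases List.mem_cons.1 hc with rfl | hc
    · obtain ⟨a', b', ha', hb', e⟩ := hS s hs
      rw [Nat.eq_of_beq_eq_true hk] at e
      exact ⟨a', ⟨b', e⟩, by rw [← ha', lo_pc]⟩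
    · exact ha c hc

theorem gensB_sound (h1 : g 1 = w) {S : List SF} (hS : AllS φ g S) {Bc : ℕ} (hB : Bc = cd B) (l : List ℕ) :
    ∀ {acc : List ℕ} {K : List ℕ → Bool},
    (∀ c ∈ acc, ∃ a ∈ NB φ w, cd a = c) → gensB S Bc l acc K = true →
    ∃ gs, (∀ c ∈ gs, ∃ a ∈ NB φ w, cd a = c) ∧ K gs = true := by
  induction l with
  | nil => exact fun ha h => ⟨_, ha, h⟩
  | cons n l ih =>
    intro acc K ha h
    rw [gensB_cons] at h
    obtain ⟨s, hs, h⟩ := nthK_sound h
    obtain ⟨hk, h2⟩ := cond_true_of h
    obtain ⟨hc, h3⟩ := cond_true_of h2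
    refine ih ?_ h3
    intro c hc'
    rcases List.mem_cons.1 hc' with rfl | hc'
    · obtain ⟨a', b', ha', hb', e⟩ := hS s hs
      rw [Nat.eq_of_beq_eq_true hk, h1] at e
      have hcomm := Nat.eq_of_beq_eq_true hc
      rw [← hb', lo_pc, hB, ← cd_mul, ← cd_mul, cd_inj] at hcomm
      exact ⟨b', ⟨hcomm, a', e⟩, by rw [← hb', lo_pc]⟩
    · exact ha c hc'

/-! ### the directions are different -/

/-- the codes at the positions `j, …, j + n - 1` have different residues modulo `P` -/
noncomputable def distK (Yb P : ℕ) (n : ℕ) : ℕ → ℕ → Bool :=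
  Nat.rec (motive := fun _ => ℕ → ℕ → Bool) (fun _ _ => true)
    (fun _ ih j mask => force j fun j => force (Nat.mod (yc Yb j) P) fun r =>
      cond (Nat.beq (Nat.land (Nat.shiftRight mask r) 1) 0)
        (force (Nat.lor mask (Nat.shiftLeft 1 r)) fun mask => ih (Nat.succ j) mask) false) n

theorem distK_succ (Yb P n j mask : ℕ) : distK Yb P (n + 1) j mask =
    cond (Nat.beq (Nat.land (Nat.shiftRight mask (Nat.mod (yc Yb j) P)) 1) 0)
      (distK Yb P n (Nat.succ j) (Nat.lor mask (Nat.shiftLeft 1 (Nat.mod (yc Yb j) P)))) false := rfl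

theorem distK_sound {Yb P : ℕ} (n : ℕ) : ∀ {j mask : ℕ}, distK Yb P n j mask = true →
    (∀ i < n, mask.testBit (yc Yb (j + i) % P) = false) ∧
    ∀ i < n, ∀ i' < i, yc Yb (j + i) ≠ yc Yb (j + i') := by
  induction n with
  | zero => exact fun _ => ⟨fun i hi => absurd hi (by simp), fun i hi => absurd hi (by simp)⟩
  | succ n ih =>
    intro j mask h
    rw [distK_succ] at h
    obtain ⟨hb, h2⟩ := cond_true_of h
    obtain ⟨h3, h4⟩ := ih h2
    have hb' : mask.testBit (yc Yb j % P) = false := testBit_false_of_land hb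
    constructor
    · intro i hi
      cases i with
      | zero => exact hb'
      | succ i =>
        have := h3 i (by omega)
        have e : j + (i + 1) = Nat.succ j + i := by omega
        rw [e]
        by_contra hne
        rw [Bool.not_eq_false] at hne
        rw [testBit_lor_shl.2 (Or.inl hne)] at this
        exact absurd this (by simp)
    · intro i hi i' hi'
      cases i with
      | zero => exact absurd hi' (by simp)
      | succ i =>
        have e : j + (i + 1) = Nat.succ j + i := by omega
        rw [e]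
        cases i' with
        | zero =>
          intro heq
          have := h3 i (by omega)
          rw [heq] at this
          have h5 : (Nat.lor mask (Nat.shiftLeft 1 (Nat.mod (yc Yb j) P))).testBit (yc Yb j % P) = true :=
            testBit_lor_shl.2 (Or.inr rfl)
          rw [Nat.add_zero] at this
          rw [h5] at this
          exact absurd this (by simp)
        | succ i' =>
          have e' : j + (i' + 1) = Nat.succ j + i' := by omega
          rw [e']
          exact h4 i (by omega) i' (by omega)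

/-- The centraliser of `B` has order at most `4608`. -/
theorem card_cent_le {Yb : ℕ} (hne : ∀ i < 630, ∀ i' < i, yc Yb i ≠ yc Yb i')
    (hex : ∀ i < 630, ∃ p : M, dir p = yc Yb i) :
    Nat.card (Subgroup.centralizer ({B} : Set M)) ≤ 4608 := by
  choose! p hp using hex
  have hinj : Function.Injective fun x : Fin 630 × Subgroup.centralizer ({B} : Set M) => (x.2 : M) * p x.1 := by
    rintro ⟨i, c⟩ ⟨j, d⟩ h
    have h' : (c : M) * p i = d * p j := h
    have key : ∀ (i : Fin 630) (c : Subgroup.centralizer ({B} : Set M)), dir ((c : M) * p i) = yc Yb i := by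
      intro i c
      have hc := Subgroup.mem_centralizer_singleton_iff.1 c.2
      rw [← hp i i.2, dir_eq, mul_inv_rev]
      calc (p i)⁻¹ * (c : M)⁻¹ * B * (c * p i) = (p i)⁻¹ * ((c : M)⁻¹ * (B * c)) * p i := by simp only [mul_assoc]
        _ = _ := by rw [← hc, inv_mul_cancel_left]
    have hij : yc Yb i = yc Yb j := by rw [← key i c, ← key j d, h']
    have : i = j := by
      rcases lt_trichotomy (i : ℕ) j with hlt | heq | hlt
      · exact absurd hij.symm (hne j j.2 i hlt)
      · exact Fin.ext heq
      · exact absurd hij (hne i i.2 j hlt)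
    subst this
    have : c = d := Subtype.ext (mul_right_cancel h')
    rw [this]
  have h := Nat.card_le_card_of_injective _ hinj
  rw [Nat.card_prod, Nat.card_fin, Cfsg.Agent.SporRec.TwoSp6.Order.card_M] at h
  omega

theorem norm_of_card (hc : Nat.card (Subgroup.centralizer ({B} : Set M)) ≤ 4608) (hn : 4608 ≤ Nat.card (NB φ w)) :
    Norm φ w := by
  have hle : NB φ w ≤ Subgroup.centralizer ({B} : Set M) := by
    intro d hd
    rw [Subgroup.mem_centralizer_singleton_iff]
    exact hd.1
  have heq : NB φ w = Subgroup.centralizer ({B} : Set M) := by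
    apply SetLike.coe_injective
    apply Set.eq_of_subset_of_ncard_le hle
    change Nat.card (Subgroup.centralizer ({B} : Set M)) ≤ Nat.card (NB φ w)
    omega
  intro d hd
  have : d ∈ NB φ w := by
    rw [heq, Subgroup.mem_centralizer_singleton_iff]
    exact hd
  obtain ⟨-, a, ha⟩ := this
  exact ⟨a, ha.symm⟩

/-! ### the union of the double cosets -/

/-- The set `U` is finite of bounded cardinality. -/
theorem card_U (n : ℕ → ℕ) (hn : ∀ k < 7, (KG φ g k).index ≤ n k) :
    (U φ g).Finite ∧ (U φ g).ncard ≤ 2903040 * ∑ k ∈ Finset.range 7, n k := by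
  classical
  have : Fintype M := Fintype.ofFinite M
  let F : ∀ k, (M ⧸ KG φ g k) × M → G := fun k x => φ (Quotient.out x.1) * g k * φ x.2
  have hsub : U φ g ⊆ ⋃ k ∈ Finset.range 7, Set.range (F k) := by
    rintro x ⟨k, hk, a, b, rfl⟩
    simp only [Set.mem_iUnion]
    refine ⟨k, Finset.mem_range.2 hk, ?_⟩
    have hq : (Quotient.out (QuotientGroup.mk a : M ⧸ KG φ g k))⁻¹ * a ∈ KG φ g k := by
      rw [← QuotientGroup.eq, QuotientGroup.out_eq']
    obtain ⟨b', hb'⟩ := hq
    refine ⟨(QuotientGroup.mk a, b' * b), ?_⟩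
    show φ (Quotient.out (QuotientGroup.mk a : M ⧸ KG φ g k)) * g k * φ (b' * b) = _
    rw [map_mul, ← mul_assoc, mul_assoc _ (g k), ← hb', ← mul_assoc, ← map_mul, mul_inv_cancel_left]
  have hfin : ∀ k, (Set.range (F k)).Finite := fun k => Set.finite_range _
  have hUfin : (⋃ k ∈ Finset.range 7, Set.range (F k)).Finite :=
    Set.Finite.biUnion (Finset.finite_toSet _) fun k _ => hfin k
  refine ⟨hUfin.subset hsub, ?_⟩
  calc (U φ g).ncard ≤ (⋃ k ∈ Finset.range 7, Set.range (F k)).ncard := Set.ncard_le_ncard hsub hUfin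
    _ ≤ ∑ k ∈ Finset.range 7, (Set.range (F k)).ncard := by
        have key : ∀ s : Finset ℕ, (⋃ k ∈ s, Set.range (F k)).ncard ≤ ∑ k ∈ s, (Set.range (F k)).ncard := by
          intro s
          induction s using Finset.induction_on with
          | empty => simp
          | insert a s ha ih =>
            rw [Finset.sum_insert ha, Finset.set_biUnion_insert]
            exact le_trans (Set.ncard_union_le _ _) (Nat.add_le_add_left ih _)
        exact key _
    _ ≤ ∑ k ∈ Finset.range 7, n k * 2903040 := by
        apply Finset.sum_le_sum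
        intro k hk
        have h1 : (Set.range (F k)).ncard ≤ Nat.card ((M ⧸ KG φ g k) × M) := by
          rw [← Set.image_univ]
          refine le_trans (Set.ncard_image_le (Set.toFinite _)) ?_
          rw [Set.ncard_univ]
        rw [Nat.card_prod, Cfsg.Agent.SporRec.TwoSp6.Order.card_M] at h1
        exact le_trans h1 (Nat.mul_le_mul_right _ (hn k (Finset.mem_range.1 hk)))
    _ = _ := by rw [← Finset.sum_mul, mul_comm]

/-- The subgroup generated by `φ M` and `w` lies in `U`. -/
theorem closure_le_U (h0 : g 0 = 1) (h1 : g 1 = w) (hw3 : w * w * w = 1)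
    (hcov : ∀ i < 7, 0 < i → ∀ p : M, w * φ p * g i ∈ U φ g) :
    ∀ x ∈ Subgroup.closure (Set.range φ ∪ {w}), x ∈ U φ g := by
  have hw : ∀ u ∈ U φ g, w * u ∈ U φ g := by
    rintro u ⟨k, hk, a, b, rfl⟩
    rcases Nat.eq_zero_or_pos k with rfl | hpos
    · refine ⟨1, by norm_num, 1, a * b, ?_⟩
      rw [h0, h1, map_one, one_mul, mul_one, map_mul]
    · have := U_right b (hcov k hk hpos a)
      rw [← mul_assoc, ← mul_assoc]
      exact this
  have key : ∀ x ∈ Subgroup.closure (Set.range φ ∪ {w}), ∀ u ∈ U φ g, x * u ∈ U φ g := by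
    intro x hx
    induction hx using Subgroup.closure_induction'' with
    | mem x hx =>
      rcases hx with ⟨a, rfl⟩ | hx
      · exact fun u hu => U_left a hu
      · rw [Set.mem_singleton_iff] at hx
        subst hx
        exact hw
    | inv_mem x hx =>
      rcases hx with ⟨a, rfl⟩ | hx
      · rw [← map_inv]
        exact fun u hu => U_left _ hu
      · rw [Set.mem_singleton_iff] at hx
        subst hx
        intro u hu
        have : x⁻¹ = x * x := (eq_inv_of_mul_eq_one_left hw3).symm
        rw [this, mul_assoc]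
        exact hw _ (hw _ hu)
    | one => exact fun u hu => by rw [one_mul]; exact hu
    | mul x y _ _ hx hy => exact fun u hu => by rw [mul_assoc]; exact hx _ (hy _ hu)
  intro x hx
  have h := key x hx 1 ⟨0, by norm_num, 1, 1, by rw [h0, map_one, one_mul, one_mul]⟩
  rwa [mul_one] at h

end Sem

end Cfsg.Agent.SporRec.Co3DC.Count
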