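import Cfsg.Agent.SporRec.Co3DC.ExistsWRel

/-!
# The twist of `w` is trivial up to eight cases (third Conway group)

Comparing the actions of the two sides of the relation `w n w = e m w m₂` on one element of `C_M(z, b, e₁)` shows `v = 1`
and `e ∈ ⟨z, b, e₁⟩`.
-/

set_option autoImplicit false

namespace Cfsg.Agent.SporRec.Co3DC.CutCases

open Cfsg.Agent.SporRec.TwoSp6.Mat Cfsg.Agent.SporRec.TwoSp6.Model Cfsg.Agent.SporRec.TwoSp6.Order
  Cfsg.Agent.SporRec.TwoSp6.Conj Cfsg.Agent.SporRec.TwoSp6.EFacts Cfsg.Agent.SporRec.Co3DC.EAct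
  Cfsg.Agent.SporRec.Co3DC.ExistsW Cfsg.Agent.SporRec.Co3DC.ExistsWRel

variable {G : Type*} [Group G]

/-- words of the generators `z, b, e₁, e₂, y, x, k` of `D = C_M(b)` -/
def dW : ℕ → List ℕ
  | 0 => [7]
  | 1 => Co3DC.bW
  | 2 => Co3DC.e1W
  | 3 => Co3DC.e2W
  | 4 => Co3DC.yW
  | 5 => Co3DC.xW
  | _ => Co3DC.kW

/-- the word of the element `v` -/
def vW (c : Bool) : List ℕ := bif c then 7 :: Co3DC.bW else []

/-- words of the images of the generators of `D` under conjugation by `w` -/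
def tW (c : Bool) : ℕ → List ℕ
  | 0 => Co3DC.bW
  | 1 => 7 :: Co3DC.bW
  | 2 => Co3DC.e1W
  | 3 => Co3DC.e2W
  | 4 => Co3DC.yW
  | 5 => Co3DC.xW ++ Co3DC.yW
  | _ => Co3DC.kW ++ vW c

def dword (u : List ℕ) : List ℕ := (u.map dW).flatten

def tword (c : Bool) (u : List ℕ) : List ℕ := (u.map (tW c)).flatten

theorem W_append (u w : List ℕ) : W (u ++ w) = W u * W w := wv_append gen z u w

theorem W_seven (u : List ℕ) : W (7 :: u) = z * W u := by
  show wv gen z (7 :: u) = _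
  rw [wv_cons]; rfl

theorem W_eq {u w : List ℕ} (h : wN u = wN w) : W u = W w := by
  rw [← cd_inj, cd_wv, cd_wv, h]

theorem e2_eq : wN Co3DC.e2W = wN (winv Co3DC.yW ++ Co3DC.e1W ++ Co3DC.yW) := by decide +kernel

theorem conj_D {φ : M →* G} {w : G} {c : Bool} {e : M} (h : WRel φ w (W (vW c)) e) (u : List ℕ) :
    φ (W (dword u)) * w = w * φ (W (tword c u)) := by
  have gens : ∀ j, φ (W (dW j)) * w = w * φ (W (tW c j)) := by
    intro j
    match j with
    | 0 =>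
      have : W (dW 0) = z := by
        show wv gen z [7] = z
        rw [wv_cons, wv_nil, mul_one]; rfl
      rw [this]; exact h.hz
    | 1 =>
      show φ (W Co3DC.bW) * w = w * φ (W (7 :: Co3DC.bW))
      rw [W_seven]; exact h.hB
    | 2 => exact h.hE1
    | 3 =>
      show φ (W Co3DC.e2W) * w = w * φ (W Co3DC.e2W)
      have e : W Co3DC.e2W = (W Co3DC.yW)⁻¹ * W Co3DC.e1W * W Co3DC.yW := by
        rw [W_eq e2_eq, W_append, W_append]
        show wv gen z (winv Co3DC.yW) * _ * _ = _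
        rw [wv_winv rels]
      have hy := h.hY
      have hyi : (φ (W Co3DC.yW))⁻¹ * w = w * (φ (W Co3DC.yW))⁻¹ := by
        calc (φ (W Co3DC.yW))⁻¹ * w = (φ (W Co3DC.yW))⁻¹ * (w * φ (W Co3DC.yW)) * (φ (W Co3DC.yW))⁻¹ := by group
          _ = _ := by rw [← hy]; group
      rw [e, map_mul, map_mul, map_inv]
      calc (φ (W Co3DC.yW))⁻¹ * φ (W Co3DC.e1W) * φ (W Co3DC.yW) * w
          = (φ (W Co3DC.yW))⁻¹ * φ (W Co3DC.e1W) * (φ (W Co3DC.yW) * w) := by group
        _ = (φ (W Co3DC.yW))⁻¹ * (φ (W Co3DC.e1W) * w) * φ (W Co3DC.yW) := by rw [hy]; group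
        _ = ((φ (W Co3DC.yW))⁻¹ * w) * φ (W Co3DC.e1W) * φ (W Co3DC.yW) := by rw [h.hE1]; group
        _ = w * ((φ (W Co3DC.yW))⁻¹ * φ (W Co3DC.e1W) * φ (W Co3DC.yW)) := by rw [hyi]; group
    | 4 => exact h.hY
    | 5 =>
      show φ (W Co3DC.xW) * w = w * φ (W (Co3DC.xW ++ Co3DC.yW))
      rw [W_append]; exact h.hX
    | (n + 6) =>
      show φ (W Co3DC.kW) * w = w * φ (W (Co3DC.kW ++ vW c))
      rw [W_append]; exact h.hK
  induction u with
  | nil =>
    show φ (W []) * w = w * φ (W [])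
    have : W [] = 1 := rfl
    rw [this, map_one, one_mul, mul_one]
  | cons j u ih =>
    show φ (W (dW j ++ dword u)) * w = w * φ (W (tW c j ++ tword c u))
    rw [W_append, W_append, map_mul, map_mul]
    calc φ (W (dW j)) * φ (W (dword u)) * w = φ (W (dW j)) * (φ (W (dword u)) * w) := by group
      _ = (φ (W (dW j)) * w) * φ (W (tword c u)) := by rw [ih]; group
      _ = w * (φ (W (tW c j)) * φ (W (tword c u))) := by rw [gens j]; group

/-- the test element -/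
def ua : List ℕ := [3, 5, 2, 5, 2, 5]
def u2 : List ℕ := [1, 4, 6]
def u3 (d : Bool) : List ℕ := bif d then [5, 2, 5, 2, 5, 3] else [3, 5, 2, 5, 2, 5]

theorem chk_n : ∀ c : Bool, wN (tword c ua ++ Co3DC.nW) = wN (Co3DC.nW ++ dword u2) := by decide +kernel

theorem chk_m : ∀ i < 16, wN (dword ua ++ (ew i ++ Co3DC.mW)) =
    wN (ew i ++ (Co3DC.mW ++ dword (u3 (Nat.ble 8 i)))) := by decide +kernel

theorem chk_c : ∀ c d : Bool, wN (Co3DC.m2W ++ tword c u2) = wN (tword c (u3 d) ++ Co3DC.m2W) →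
    c = false ∧ d = false := by decide +kernel

/-- **`v = 1` and `e ∈ ⟨z, b, e₁⟩`.** -/
theorem cut {φ : M →* G} (hinj : Function.Injective φ) {w : G} {c : Bool} {i : ℕ} (hi : i < 16)
    (h : WRel φ w (W (vW c)) (W (ew i))) : c = false ∧ i < 8 := by
  have a1 := conj_D h ua
  have a2 : φ (W (tword c ua)) * φ (W Co3DC.nW) = φ (W Co3DC.nW) * φ (W (dword u2)) := by
    rw [← map_mul, ← map_mul, ← W_append, ← W_append, W_eq (chk_n c)]
  have a3 := conj_D h u2
  have b1 : φ (W (dword ua)) * φ (W (ew i) * W Co3DC.mW) =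
      φ (W (ew i) * W Co3DC.mW) * φ (W (dword (u3 (Nat.ble 8 i)))) := by
    rw [← map_mul, ← map_mul, ← W_append, ← W_append, ← W_append, W_eq (chk_m i hi), List.append_assoc]
  have b2 := conj_D h (u3 (Nat.ble 8 i))
  have L : φ (W (dword ua)) * (w * φ (W Co3DC.nW) * w) = (w * φ (W Co3DC.nW) * w) * φ (W (tword c u2)) := by
    calc φ (W (dword ua)) * (w * φ (W Co3DC.nW) * w) = (φ (W (dword ua)) * w) * φ (W Co3DC.nW) * w := by group
      _ = w * (φ (W (tword c ua)) * φ (W Co3DC.nW)) * w := by rw [a1]; group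
      _ = w * φ (W Co3DC.nW) * (φ (W (dword u2)) * w) := by rw [a2]; group
      _ = _ := by rw [a3]; group
  rw [h.hN] at L
  have R : φ (W (dword ua)) * (φ (W (ew i) * W Co3DC.mW) * w * φ (W Co3DC.m2W)) =
      φ (W (ew i) * W Co3DC.mW) * w * (φ (W (tword c (u3 (Nat.ble 8 i)))) * φ (W Co3DC.m2W)) := by
    calc φ (W (dword ua)) * (φ (W (ew i) * W Co3DC.mW) * w * φ (W Co3DC.m2W))
        = (φ (W (dword ua)) * φ (W (ew i) * W Co3DC.mW)) * w * φ (W Co3DC.m2W) := by group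
      _ = φ (W (ew i) * W Co3DC.mW) * (φ (W (dword (u3 (Nat.ble 8 i)))) * w) * φ (W Co3DC.m2W) := by
          rw [b1]; group
      _ = _ := by rw [b2]; group
  rw [R] at L
  have e : φ (W (Co3DC.m2W ++ tword c u2)) = φ (W (tword c (u3 (Nat.ble 8 i)) ++ Co3DC.m2W)) := by
    rw [W_append, W_append, map_mul, map_mul]
    have L' : (φ (W (ew i) * W Co3DC.mW) * w) * (φ (W (tword c (u3 (Nat.ble 8 i)))) * φ (W Co3DC.m2W)) =
        (φ (W (ew i) * W Co3DC.mW) * w) * (φ (W Co3DC.m2W) * φ (W (tword c u2))) := by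
      rw [L]; group
    exact (mul_left_cancel L').symm
  have e' : wN (Co3DC.m2W ++ tword c u2) = wN (tword c (u3 (Nat.ble 8 i)) ++ Co3DC.m2W) := by
    rw [← cd_wv, ← cd_wv]; exact congrArg cd (hinj e)
  obtain ⟨hc, hd⟩ := chk_c _ _ e'
  refine ⟨hc, ?_⟩
  by_contra h8
  have : Nat.ble 8 i = true := Nat.ble_eq_true_of_le (by omega)
  rw [this] at hd
  exact absurd hd (by decide)

/-- **Existence of `w`, eight cases.** -/
theorem exists_wrel_eight {φ : M →* G} (H : Hyp φ) {g0 : G}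
    (hn : ∀ i < 16, ∃ j < 16, g0⁻¹ * ee φ i * g0 = ee φ j) (hz : g0⁻¹ * φ z * g0 ≠ φ z) :
    ∃ (w : G) (i : ℕ), i < 8 ∧ WRel φ w 1 (W (ew i)) := by
  obtain ⟨w, v, i, hi, hv, h⟩ := exists_wrel H hn hz
  have hc : ∃ c : Bool, v = W (vW c) := by
    rcases hv with rfl | rfl
    · exact ⟨false, rfl⟩
    · exact ⟨true, (W_seven _).symm⟩
  obtain ⟨c, rfl⟩ := hc
  obtain ⟨rfl, hi8⟩ := cut H.inj hi h
  exact ⟨w, i, hi8, h⟩

end Cfsg.Agent.SporRec.Co3DC.CutCases
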