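import Cfsg.Agent.SporRec.Co3DC.EAct

/-!
# Existence of the element `w` of order three with forced relations (third Conway group)

From one element of `G` normalising `E = ⟨z, b, e₁, e₂⟩` and moving `z` we get an element `w` of order three with
`z → b → zb` under conjugation and forced relations with the centraliser of `⟨z, b⟩`.
-/

set_option autoImplicit false

namespace Cfsg.Agent.SporRec.Co3DC.ExistsW

open Cfsg.Agent.SporRec.TwoSp6.Mat Cfsg.Agent.SporRec.TwoSp6.Model Cfsg.Agent.SporRec.TwoSp6.Order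
  Cfsg.Agent.SporRec.TwoSp6.Conj Cfsg.Agent.SporRec.TwoSp6.EFacts Cfsg.Agent.SporRec.Co3DC.EAct

variable {G : Type*} [Group G]

/-- value in `G` of a word -/
noncomputable def pw (φ : M →* G) (w : List ℕ) : G := φ (v w)

theorem pw_append (φ : M →* G) (u w : List ℕ) : pw φ (u ++ w) = pw φ u * pw φ w := by
  unfold pw; rw [← map_mul, ← wv_append]

theorem pw_eq (φ : M →* G) {u w : List ℕ} (h : wN u = wN w) : pw φ u = pw φ w := by
  unfold pw
  congr 1
  rw [← cd_inj, cd_wv, cd_wv, h]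

theorem wN_of_pw {φ : M →* G} (H : Hyp φ) {u w : List ℕ} (h : pw φ u = pw φ w) : wN u = wN w := by
  rw [← cd_wv, ← cd_wv]
  exact congrArg cd (H.inj h)

theorem ee_pw (φ : M →* G) (i : ℕ) : ee φ i = pw φ (ew i) := rfl

theorem pw_nil (φ : M →* G) : pw φ [] = 1 := map_one φ

/-- the first stage: order three and the action on `E` -/
structure W1 (φ : M →* G) (w : G) : Prop where
  w3 : w * w * w = 1
  act : Act φ w 2 3 4 8

theorem W1.inv_eq {φ : M →* G} {w : G} (h : W1 φ w) : w⁻¹ = w * w := by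
  rw [inv_eq_iff_mul_eq_one, ← mul_assoc]; exact h.w3

theorem W1.act_inv {φ : M →* G} {w : G} (h : W1 φ w) : Act φ w⁻¹ 3 1 4 8 := by
  rw [h.inv_eq]
  exact (h.act.mul h.act).congr (by decide)

theorem exists_W1 {φ : M →* G} (H : Hyp φ) {w0 : G} (h : Act φ w0 2 3 4 8) : ∃ w, W1 φ w := by
  have h2 : Act φ (w0 * w0) 3 1 4 8 := (h.mul h).congr (by decide)
  have h3 : Act φ (w0 * w0 * w0) 1 2 4 8 := (h2.mul h).congr (by decide)
  obtain ⟨i, hi, hw⟩ := exists_ee H h3
  have h6 : w0 * w0 * w0 * (w0 * w0 * w0) = 1 := by rw [hw, ee_sq φ hi]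
  refine ⟨w0 * w0 * w0 * w0, ?_, (h3.mul h).congr (by decide)⟩
  calc w0 * w0 * w0 * w0 * (w0 * w0 * w0 * w0) * (w0 * w0 * w0 * w0)
      = (w0 * w0 * w0 * (w0 * w0 * w0)) * (w0 * w0 * w0 * (w0 * w0 * w0)) := by group
    _ = 1 := by rw [h6, one_mul]

/-! ### The element `y` -/

theorem y_check : ∀ i < 16, wN ((ew i ++ yW) ++ (ew i ++ yW) ++ (ew i ++ yW)) = wN [] →
    i = 0 ∨ i = 4 ∨ i = 8 ∨ i = 12 := by decide +kernel

theorem y_cube : wN (yW ++ yW ++ yW) = wN [] := by decide +kernel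

theorem W1.comm_y {φ : M →* G} (H : Hyp φ) {w : G} (h : W1 φ w) : w * pw φ yW = pw φ yW * w := by
  have Ay : Act φ (pw φ yW) 1 2 8 12 := act_of_chk φ chky
  have A' : Act φ (w⁻¹ * pw φ yW * w) 1 2 8 12 := ((h.act_inv.mul Ay).mul h.act).congr (by decide)
  obtain ⟨i, hi, e⟩ := A'.eq_mul H Ay
  have hy3 : pw φ yW * pw φ yW * pw φ yW = 1 := by
    rw [← pw_append, ← pw_append, pw_eq φ y_cube, pw_nil]
  have e3 : (ee φ i * pw φ yW) * (ee φ i * pw φ yW) * (ee φ i * pw φ yW) = 1 := by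
    rw [← e]
    calc w⁻¹ * pw φ yW * w * (w⁻¹ * pw φ yW * w) * (w⁻¹ * pw φ yW * w)
        = w⁻¹ * (pw φ yW * pw φ yW * pw φ yW) * w := by group
      _ = 1 := by rw [hy3]; group
  have hw : wN ((ew i ++ yW) ++ (ew i ++ yW) ++ (ew i ++ yW)) = wN [] := by
    apply wN_of_pw H
    rw [pw_append, pw_append, pw_append, pw_nil, ← ee_pw]
    exact e3
  have hfix : lin 2 3 4 8 i = i := by
    rcases y_check i hi hw with rfl | rfl | rfl | rfl <;> decide
  -- `w²` commutes with `y`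
  have e4 : w⁻¹ * (w⁻¹ * pw φ yW * w) * w = pw φ yW := by
    rw [e]
    have h1 : w⁻¹ * (ee φ i * pw φ yW) * w = (w⁻¹ * ee φ i * w) * (w⁻¹ * pw φ yW * w) := by group
    have h2 : w⁻¹ * ee φ i * w = ee φ i := by
      have := h.act.all hi
      rw [hfix] at this
      exact this
    rw [h1, h2, e, ← mul_assoc, ee_sq φ hi, one_mul]
  have e5 : w⁻¹ * w⁻¹ = w := by rw [h.inv_eq]; calc w * w * (w * w) = w * w * w * w := by group
      _ = w := by rw [h.w3, one_mul]
  have e6 : w * w = w⁻¹ := h.inv_eq.symm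
  have e7 : w * pw φ yW * w⁻¹ = pw φ yW := by
    calc w * pw φ yW * w⁻¹ = (w⁻¹ * w⁻¹) * pw φ yW * (w * w) := by rw [e5, e6]
      _ = w⁻¹ * (w⁻¹ * pw φ yW * w) * w := by group
      _ = pw φ yW := e4
  calc w * pw φ yW = w * pw φ yW * w⁻¹ * w := by group
    _ = pw φ yW * w := by rw [e7]

/-! ### The involution `s` -/

theorem s_sq : wN (sW ++ sW) = wN [] := by decide +kernel

theorem s_y : wN (sW ++ yW) = wN (yW ++ sW) := by decide +kernel

theorem ey_check : ∀ i < 16, wN (ew i ++ yW) = wN (yW ++ ew i) → i = 0 ∨ i = 1 ∨ i = 2 ∨ i = 3 := by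
  decide +kernel

/-- the second stage: `s` inverts `w` -/
structure W2 (φ : M →* G) (w : G) : Prop extends W1 φ w where
  y : w * pw φ yW = pw φ yW * w
  s : pw φ sW * w * pw φ sW = w⁻¹

theorem exists_W2 {φ : M →* G} (H : Hyp φ) {w : G} (h : W1 φ w) : ∃ w', W2 φ w' := by
  have hy := h.comm_y H
  have As : Act φ (pw φ sW) 1 3 4 8 := act_of_chk φ chks
  have hss : pw φ sW * pw φ sW = 1 := by rw [← pw_append, pw_eq φ s_sq, pw_nil]
  have hsi : (pw φ sW)⁻¹ = pw φ sW := inv_eq_of_mul_eq_one_left hss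
  have hsy : pw φ sW * pw φ yW = pw φ yW * pw φ sW := by
    rw [← pw_append, ← pw_append, pw_eq φ s_y]
  have A' : Act φ (pw φ sW * w * pw φ sW * w) 1 2 4 8 :=
    (((As.mul h.act).mul As).mul h.act).congr (by decide)
  obtain ⟨i, hi, e⟩ := exists_ee H A'
  have ei : pw φ sW * w * pw φ sW = ee φ i * w⁻¹ := by rw [← e]; group
  -- `ee i` commutes with `y`
  have ey : ee φ i * pw φ yW = pw φ yW * ee φ i := by
    rw [← e]
    calc pw φ sW * w * pw φ sW * w * pw φ yW = pw φ sW * w * pw φ sW * (w * pw φ yW) := by group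
      _ = pw φ sW * w * (pw φ sW * pw φ yW) * w := by rw [hy]; group
      _ = pw φ sW * (w * pw φ yW) * pw φ sW * w := by rw [hsy]; group
      _ = (pw φ sW * pw φ yW) * w * pw φ sW * w := by rw [hy]; group
      _ = pw φ yW * (pw φ sW * w * pw φ sW * w) := by rw [hsy]; group
  have hi4 : i = 0 ∨ i = 1 ∨ i = 2 ∨ i = 3 := by
    apply ey_check i hi
    apply wN_of_pw H
    rw [pw_append, pw_append, ← ee_pw]
    exact ey
  -- the condition from `s² = 1`
  have e1 : pw φ sW * ee φ i * pw φ sW = w * ee φ i * w⁻¹ := by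
    have h1 : pw φ sW * (pw φ sW * w * pw φ sW) * pw φ sW = w := by
      calc pw φ sW * (pw φ sW * w * pw φ sW) * pw φ sW
          = (pw φ sW * pw φ sW) * w * (pw φ sW * pw φ sW) := by group
        _ = w := by rw [hss, one_mul, mul_one]
    rw [ei] at h1
    have h2 : pw φ sW * w⁻¹ * pw φ sW = w * ee φ i := by
      have : pw φ sW * w⁻¹ * pw φ sW = (pw φ sW * w * pw φ sW)⁻¹ := by
        rw [mul_inv_rev, mul_inv_rev, hsi, mul_assoc]
      rw [this, ei, mul_inv_rev, inv_inv, ee_inv φ hi]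
    have h3 : pw φ sW * (ee φ i * w⁻¹) * pw φ sW =
        (pw φ sW * ee φ i * pw φ sW) * (pw φ sW * w⁻¹ * pw φ sW) := by
      calc pw φ sW * (ee φ i * w⁻¹) * pw φ sW = pw φ sW * ee φ i * 1 * w⁻¹ * pw φ sW := by group
        _ = _ := by rw [← hss]; group
    rw [h3, h2] at h1
    calc pw φ sW * ee φ i * pw φ sW = (pw φ sW * ee φ i * pw φ sW * (w * ee φ i)) * (w * ee φ i)⁻¹ := by group
      _ = w * (ee φ i)⁻¹ * w⁻¹ := by rw [h1]; group
      _ = w * ee φ i * w⁻¹ := by rw [ee_inv φ hi]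
  have e2 : lin 1 3 4 8 i = lin 3 1 4 8 i := by
    have h1 : pw φ sW * ee φ i * pw φ sW = ee φ (lin 1 3 4 8 i) := by
      have := As.all hi
      rw [cj_def, hsi] at this
      exact this
    have h2 : w * ee φ i * w⁻¹ = ee φ (lin 3 1 4 8 i) := by
      have := h.act_inv.all hi
      rw [cj_def, inv_inv] at this
      exact this
    apply ee_inj H (lin_lt (by norm_num) (by norm_num) (by norm_num) (by norm_num) _)
      (lin_lt (by norm_num) (by norm_num) (by norm_num) (by norm_num) _)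
    rw [← h1, ← h2, e1]
  rcases hi4 with rfl | rfl | rfl | rfl
  · refine ⟨w, h, hy, ?_⟩
    rw [ei, ee_zero, one_mul]
  · exact absurd e2 (by decide)
  · exact absurd e2 (by decide)
  · have h2' : (2 : ℕ) < 16 := by norm_num
    have h3' : (3 : ℕ) < 16 := by norm_num
    have A2 := Act.of_ee φ h2'
    have c1 : w⁻¹ * ee φ 3 * w = ee φ 1 := by
      have := h.act.all h3'
      rw [show lin 2 3 4 8 3 = 1 from by decide] at this
      exact this
    have c2 : w * ee φ 2 * w⁻¹ = ee φ 1 := by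
      have := h.act_inv.all h2'
      rw [cj_def, inv_inv, show lin 3 1 4 8 2 = 1 from by decide] at this
      exact this
    have c3 : ee φ 3 * w = w * ee φ 1 := by rw [← c1]; group
    have c4 : w * ee φ 2 = ee φ 1 * w := by rw [← c2]; group
    have m12 : ee φ 1 * ee φ 2 = ee φ 3 := by rw [ee_mul φ (by norm_num) h2']; rfl
    have m23 : ee φ 2 * ee φ 3 = ee φ 1 := by rw [ee_mul φ h2' h3']; rfl
    have m32 : ee φ 3 * ee φ 2 = ee φ 1 := by rw [ee_mul φ h3' h2']; rfl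
    have m31 : ee φ 3 * ee φ 1 = ee φ 2 := by rw [ee_mul φ h3' (by norm_num)]; rfl
    have m22 : ee φ 2 * ee φ 2 = 1 := ee_sq φ h2'
    have m33 : ee φ 3 * ee φ 3 = 1 := ee_sq φ h3'
    have s2 : pw φ sW * ee φ 2 * pw φ sW = ee φ 3 := by
      have := As.all h2'
      rw [cj_def, hsi, show lin 1 3 4 8 2 = 3 from by decide] at this
      exact this
    refine ⟨ee φ 2 * w * ee φ 2, ⟨?_, ((A2.mul h.act).mul A2).congr (by decide)⟩, ?_, ?_⟩
    · calc ee φ 2 * w * ee φ 2 * (ee φ 2 * w * ee φ 2) * (ee φ 2 * w * ee φ 2)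
          = ee φ 2 * w * (ee φ 2 * ee φ 2) * w * (ee φ 2 * ee φ 2) * w * ee φ 2 := by group
        _ = ee φ 2 * (w * w * w) * ee φ 2 := by rw [m22]; group
        _ = 1 := by rw [h.w3, mul_one, m22]
    · have y2 : ee φ 2 * pw φ yW = pw φ yW * ee φ 2 := by
        rw [ee_pw, ← pw_append, ← pw_append]
        exact pw_eq φ (by decide +kernel)
      calc ee φ 2 * w * ee φ 2 * pw φ yW = ee φ 2 * w * (ee φ 2 * pw φ yW) := by group
        _ = ee φ 2 * (w * pw φ yW) * ee φ 2 := by rw [y2]; group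
        _ = (ee φ 2 * pw φ yW) * w * ee φ 2 := by rw [hy]; group
        _ = pw φ yW * (ee φ 2 * w * ee φ 2) := by rw [y2]; group
    · have t1 : pw φ sW * (ee φ 2 * w * ee φ 2) * pw φ sW =
          (pw φ sW * ee φ 2 * pw φ sW) * (pw φ sW * w * pw φ sW) * (pw φ sW * ee φ 2 * pw φ sW) := by
        have : pw φ sW * (ee φ 2 * w * ee φ 2) * pw φ sW =
          pw φ sW * ee φ 2 * 1 * w * 1 * ee φ 2 * pw φ sW := by group
        rw [this, ← hss]; group
      rw [t1, s2, ei, mul_inv_rev, mul_inv_rev, ee_inv φ h2']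
      calc ee φ 3 * (ee φ 3 * w⁻¹) * ee φ 3 = (ee φ 3 * ee φ 3) * w⁻¹ * ee φ 3 := by group
        _ = w⁻¹ * ee φ 3 := by rw [m33, one_mul]
        _ = (w⁻¹ * ee φ 3 * w) * w⁻¹ := by group
        _ = ee φ 1 * w⁻¹ := by rw [c1]
        _ = ee φ 2 * (ee φ 3 * w⁻¹) := by rw [← m23]; group
        _ = ee φ 2 * (w⁻¹ * (w * ee φ 3 * w⁻¹)) := by group
        _ = ee φ 2 * (w⁻¹ * ee φ 2) := by
            have := h.act_inv.all h3'
            rw [cj_def, inv_inv, show lin 3 1 4 8 3 = 2 from by decide] at this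
            rw [this]

end Cfsg.Agent.SporRec.Co3DC.ExistsW
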