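import Cfsg.Agent.SporRec.Co3DC.ExistsW
import Cfsg.Agent.SporRec.Co3DC.Rel

/-!
# Existence of the element `w`, final form (third Conway group)
-/

set_option autoImplicit false

namespace Cfsg.Agent.SporRec.Co3DC.ExistsWRel

open Cfsg.Agent.SporRec.TwoSp6.Mat Cfsg.Agent.SporRec.TwoSp6.Model Cfsg.Agent.SporRec.TwoSp6.Order
  Cfsg.Agent.SporRec.TwoSp6.Conj Cfsg.Agent.SporRec.TwoSp6.EFacts Cfsg.Agent.SporRec.Co3DC.EAct
  Cfsg.Agent.SporRec.Co3DC.ExistsW

variable {G : Type*} [Group G]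

/-! ### The element `x` -/

/-- a word in `p, q, u`: the commutator of `p^u` and `q^(u²)` when `u³ = p² = q² = 1` -/
def cw (p q u : List ℕ) : List ℕ :=
  u ++ (u ++ (p ++ (u ++ (u ++ (q ++ (u ++ (p ++ (u ++ (u ++ (q ++ (u ++ u)))))))))))

theorem pw_cw (φ : M →* G) (p q u : List ℕ) : pw φ (cw p q u) =
    pw φ u * (pw φ u * (pw φ p * (pw φ u * (pw φ u * (pw φ q * (pw φ u * (pw φ p * (pw φ u * (pw φ u *
      (pw φ q * (pw φ u * pw φ u))))))))))) := by
  unfold cw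
  simp only [pw_append]

theorem x_check : ∀ u ∈ L36, wN (u ++ (u ++ u)) = wN [] → wN (cw (ew 4) (ew 4) u) = wN (ew 2) →
    wN (cw (ew 4) (ew 8) u) = wN (ew 3) → wN u = wN (TwoSp6.EFacts.xW ++ TwoSp6.EFacts.yW) := by decide +kernel

theorem x_cw1 : wN (cw (ew 4) (ew 4) TwoSp6.EFacts.xW) = wN (ew 1) := by decide +kernel

theorem x_cw2 : wN (cw (ew 4) (ew 8) TwoSp6.EFacts.xW) = wN (ew 2) := by decide +kernel

theorem x_cube : wN (TwoSp6.EFacts.xW ++ (TwoSp6.EFacts.xW ++ TwoSp6.EFacts.xW)) = wN [] := by decide +kernel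

theorem x_b : wN (TwoSp6.EFacts.xW ++ ew 2) = wN (ew 2 ++ TwoSp6.EFacts.xW) := by decide +kernel

theorem x_y : wN (TwoSp6.EFacts.xW ++ TwoSp6.EFacts.yW) = wN (TwoSp6.EFacts.yW ++ TwoSp6.EFacts.xW) := by decide +kernel

theorem x_rel1 (φ : M →* G) : pw φ (cw (ew 4) (ew 4) TwoSp6.EFacts.xW) = pw φ (ew 1) := pw_eq φ x_cw1

theorem x_rel2 (φ : M →* G) : pw φ (cw (ew 4) (ew 8) TwoSp6.EFacts.xW) = pw φ (ew 2) := pw_eq φ x_cw2

/-- conjugation by `w` on a product -/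
theorem cj_word {w : G} {x p q x' : G} (hx : cj w x = x') (hp : cj w p = p) (hq : cj w q = q) :
    cj w (x * (x * (p * (x * (x * (q * (x * (p * (x * (x * (q * (x * x)))))))))))) =
      x' * (x' * (p * (x' * (x' * (q * (x' * (p * (x' * (x' * (q * (x' * x'))))))))))) := by
  simp only [cj_mul, hx, hp, hq]

theorem w2_x {φ : M →* G} (H : Hyp φ) {w : G} (h : W2 φ w) :
    w⁻¹ * pw φ TwoSp6.EFacts.xW * w = pw φ TwoSp6.EFacts.xW * pw φ TwoSp6.EFacts.yW := by
  set X := pw φ TwoSp6.EFacts.xW with hX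
  have xz : ee φ 1 * X = X * ee φ 1 := by
    rw [ee_one, hX]
    show φ z * φ _ = φ _ * φ z
    rw [← map_mul, ← map_mul, z_comm]
  have xb : X * ee φ 2 = ee φ 2 * X := by
    rw [ee_pw, hX, ← pw_append, ← pw_append]; exact pw_eq φ x_b
  have xy : X * pw φ TwoSp6.EFacts.yW = pw φ TwoSp6.EFacts.yW * X := by
    rw [hX, ← pw_append, ← pw_append]; exact pw_eq φ x_y
  have m12 : ee φ 1 * ee φ 2 = ee φ 3 := by rw [ee_mul φ (by norm_num) (by norm_num)]; rfl
  have x3 : X * ee φ 3 = ee φ 3 * X := by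
    rw [← m12]
    calc X * (ee φ 1 * ee φ 2) = (X * ee φ 1) * ee φ 2 := by group
      _ = ee φ 1 * (X * ee φ 2) := by rw [← xz]; group
      _ = ee φ 1 * ee φ 2 * X := by rw [xb]; group
  have c3 : cj w (ee φ 3) = ee φ 1 := by
    rw [h.act.all (by norm_num)]; rfl
  have c1 : cj w (ee φ 1) = ee φ 2 := h.act.h1
  have k1 : cj w X * φ z = φ z * cj w X := by
    rw [← ee_one, ← c3, ← cj_mul, ← cj_mul, x3]
  have k2 : cj w X * ee φ 2 = ee φ 2 * cj w X := by
    rw [← c1, ← cj_mul, ← cj_mul, xz]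
  have yw : cj w (pw φ TwoSp6.EFacts.yW) = pw φ TwoSp6.EFacts.yW := cj_of_comm h.y
  have ky : cj w X * pw φ TwoSp6.EFacts.yW = pw φ TwoSp6.EFacts.yW * cj w X := by
    conv_lhs => rw [← yw]
    conv_rhs => rw [← yw]
    rw [← cj_mul, ← cj_mul, xy]
  obtain ⟨x', hx'⟩ := H.cent _ k1
  obtain ⟨u, hu, hux⟩ := exists_L36 (x := x')
    (by apply H.inj; rw [map_mul, map_mul, hx']; exact k2)
    (by apply H.inj; rw [map_mul, map_mul, hx']; exact ky)
  have hX' : cj w X = pw φ u := by rw [← hx', hux]; rfl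
  have c4 : cj w (ee φ 4) = ee φ 4 := h.act.h4
  have c8 : cj w (ee φ 8) = ee φ 8 := h.act.h8
  have hX2 : cj w (pw φ TwoSp6.EFacts.xW) = pw φ u := hX'
  have d4 : cj w (pw φ (ew 4)) = pw φ (ew 4) := c4
  have d8 : cj w (pw φ (ew 8)) = pw φ (ew 8) := c8
  have q1 : wN (u ++ (u ++ u)) = wN [] := by
    apply wN_of_pw H
    rw [pw_append, pw_append, pw_nil, ← hX', ← cj_mul, ← cj_mul]
    have : X * (X * X) = 1 := by
      rw [hX, ← pw_append, ← pw_append, pw_eq φ x_cube, pw_nil]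
    rw [this, cj_one]
  have q2 : wN (cw (ew 4) (ew 4) u) = wN (ew 2) := by
    apply wN_of_pw H
    have r := congrArg (cj w) (x_rel1 φ)
    rw [pw_cw, cj_word (w := w) hX2 d4 d4, ← pw_cw] at r
    rw [r]
    exact c1
  have q3 : wN (cw (ew 4) (ew 8) u) = wN (ew 3) := by
    apply wN_of_pw H
    have c2 : cj w (ee φ 2) = ee φ 3 := h.act.h2
    have r := congrArg (cj w) (x_rel2 φ)
    rw [pw_cw, cj_word (w := w) hX2 d4 d8, ← pw_cw] at r
    rw [r]
    exact c2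
  have := pw_eq φ (x_check u hu q1 q2 q3)
  rw [pw_append] at this
  rw [← this, ← hX', cj_def]

/-! ### The involution `k` -/

theorem k_check : ∀ i < 16, wN (ew i ++ TwoSp6.EFacts.kW ++ (ew i ++ TwoSp6.EFacts.kW)) = wN [] →
    wN (TwoSp6.EFacts.yW ++ (ew i ++ TwoSp6.EFacts.kW) ++ (TwoSp6.EFacts.yW ++ (ew i ++ TwoSp6.EFacts.kW))) = wN [] →
    i = 0 ∨ i = 1 ∨ i = 2 ∨ i = 3 := by decide +kernel

theorem k_sq : wN (TwoSp6.EFacts.kW ++ TwoSp6.EFacts.kW) = wN [] := by decide +kernel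

theorem yk_sq : wN (TwoSp6.EFacts.yW ++ TwoSp6.EFacts.kW ++ (TwoSp6.EFacts.yW ++ TwoSp6.EFacts.kW)) = wN [] := by decide +kernel

theorem k_s : wN (TwoSp6.EFacts.kW ++ TwoSp6.EFacts.sW) = wN (TwoSp6.EFacts.sW ++ TwoSp6.EFacts.kW) := by decide +kernel

theorem w2_k {φ : M →* G} (H : Hyp φ) {w : G} (h : W2 φ w) :
    w⁻¹ * pw φ TwoSp6.EFacts.kW * w = pw φ TwoSp6.EFacts.kW ∨ w⁻¹ * pw φ TwoSp6.EFacts.kW * w = ee φ 3 * pw φ TwoSp6.EFacts.kW := by
  set K := pw φ TwoSp6.EFacts.kW with hK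
  set S := pw φ TwoSp6.EFacts.sW with hS
  have Ak : Act φ K 1 2 8 4 := act_of_chk φ chkk
  have As : Act φ S 1 3 4 8 := act_of_chk φ chks
  have hss : S * S = 1 := by rw [hS, ← pw_append, pw_eq φ s_sq, pw_nil]
  have hsi : S⁻¹ = S := inv_eq_of_mul_eq_one_left hss
  have ks : K * S = S * K := by rw [hK, hS, ← pw_append, ← pw_append]; exact pw_eq φ k_s
  have A' : Act φ (w⁻¹ * K * w) 1 2 8 4 := ((h.act_inv.mul Ak).mul h.act).congr (by decide)
  obtain ⟨i, hi, e⟩ := A'.eq_mul H Ak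
  have yw : cj w (pw φ TwoSp6.EFacts.yW) = pw φ TwoSp6.EFacts.yW := cj_of_comm h.y
  have kk : K * K = 1 := by rw [hK, ← pw_append, pw_eq φ k_sq, pw_nil]
  have ykk : pw φ TwoSp6.EFacts.yW * K * (pw φ TwoSp6.EFacts.yW * K) = 1 := by
    rw [hK, ← pw_append, ← pw_append, pw_eq φ yk_sq, pw_nil]
  have ec : cj w K = ee φ i * K := e
  have hi4 : i = 0 ∨ i = 1 ∨ i = 2 ∨ i = 3 := by
    apply k_check i hi
    · apply wN_of_pw H
      rw [pw_append, pw_append, pw_nil, ← ee_pw, ← hK, ← ec, ← cj_mul, kk, cj_one]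
    · apply wN_of_pw H
      rw [pw_append, pw_append, pw_append, pw_nil, ← ee_pw, ← hK, ← ec]
      conv_lhs => rw [← yw]
      rw [← cj_mul, ← cj_mul, ykk, cj_one]
  -- the condition from `s`
  have e1 : S * ee φ i * S = w * ee φ i * w⁻¹ := by
    have sw : S * w * S = w⁻¹ := h.s
    have swi : S * w⁻¹ * S = w := by
      have : S * w⁻¹ * S = (S * w * S)⁻¹ := by
        rw [mul_inv_rev, mul_inv_rev, hsi, mul_assoc]
      rw [this, sw, inv_inv]
    have h1 : S * (w⁻¹ * K * w) * S = w * K * w⁻¹ := by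
      calc S * (w⁻¹ * K * w) * S = S * w⁻¹ * 1 * K * 1 * w * S := by group
        _ = (S * w⁻¹ * S) * (S * K) * S * (S * w * S) := by rw [← hss]; group
        _ = w * (K * S) * S * w⁻¹ := by rw [swi, sw, ks]
        _ = w * K * (S * S) * w⁻¹ := by group
        _ = w * K * w⁻¹ := by rw [hss, mul_one]
    have h2 : w * K * w⁻¹ = (w * ee φ i * w⁻¹) * K := by
      have : K = (w * ee φ i * w⁻¹) * (w * K * w⁻¹) := by
        calc K = w * (w⁻¹ * K * w) * w⁻¹ := by group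
          _ = w * (ee φ i * K) * w⁻¹ := by rw [e]
          _ = _ := by group
      calc w * K * w⁻¹ = (w * ee φ i * w⁻¹)⁻¹ * ((w * ee φ i * w⁻¹) * (w * K * w⁻¹)) := by group
        _ = (w * ee φ i * w⁻¹)⁻¹ * K := by rw [← this]
        _ = (w * (ee φ i)⁻¹ * w⁻¹) * K := by group
        _ = _ := by rw [ee_inv φ hi]
    have h3 : S * (w⁻¹ * K * w) * S = (S * ee φ i * S) * K := by
      rw [e]
      calc S * (ee φ i * K) * S = S * ee φ i * (K * S) := by group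
        _ = S * ee φ i * S * K := by rw [ks]; group
    rw [h1, h2] at h3
    exact (mul_right_cancel h3).symm
  have e2 : lin 1 3 4 8 i = lin 3 1 4 8 i := by
    have h1 : S * ee φ i * S = ee φ (lin 1 3 4 8 i) := by
      have := As.all hi
      rw [cj_def, hsi] at this
      exact this
    have h2 : w * ee φ i * w⁻¹ = ee φ (lin 3 1 4 8 i) := by
      have := h.act_inv.all hi
      rw [cj_def, inv_inv] at this
      exact this
    apply ee_inj H (lin_lt (by norm_num) (by norm_num) (by norm_num) (by norm_num) _)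
      (lin_lt (by norm_num) (by norm_num) (by norm_num) (by norm_num) _)
    rw [← h1, ← h2, e1]
  rcases hi4 with rfl | rfl | rfl | rfl
  · left
    rw [e, ee_zero, one_mul]
  · exact absurd e2 (by decide)
  · exact absurd e2 (by decide)
  · right
    exact e

theorem w2_n {φ : M →* G} (H : Hyp φ) {w : G} (h : W2 φ w) :
    ∃ i < 16, w * pw φ TwoSp6.EFacts.nW * w = ee φ i * (pw φ TwoSp6.EFacts.mW * w * pw φ TwoSp6.EFacts.m2W) := by
  have An : Act φ (pw φ TwoSp6.EFacts.nW) 1 4 3 13 := act_of_chk φ chkn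
  have Am : Act φ (pw φ TwoSp6.EFacts.mW) 1 5 3 15 := act_of_chk φ chkm
  have Am2 : Act φ (pw φ TwoSp6.EFacts.m2W) 1 4 2 13 := act_of_chk φ chkm2
  have A1 : Act φ (w * pw φ TwoSp6.EFacts.nW * w) 4 6 1 14 := ((h.act.mul An).mul h.act).congr (by decide)
  have A2 : Act φ (pw φ TwoSp6.EFacts.mW * w * pw φ TwoSp6.EFacts.m2W) 4 6 1 14 := ((Am.mul h.act).mul Am2).congr (by decide)
  exact A1.eq_mul H A2

/-- **Existence of `w`.** `φ` embeds the model of `2·Sp₆(2)` as the centraliser of `φ z`, and `g0` normalises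
`E = ⟨z, b, e₁, e₂⟩` and moves `z`. -/
theorem exists_wrel {φ : M →* G} (H : Hyp φ) {g0 : G}
    (hn : ∀ i < 16, ∃ j < 16, g0⁻¹ * ee φ i * g0 = ee φ j) (hz : g0⁻¹ * φ z * g0 ≠ φ z) :
    ∃ (w : G) (v : M) (i : ℕ), i < 16 ∧ (v = 1 ∨ v = z * W Co3DC.bW) ∧ WRel φ w v (W (ew i)) := by
  obtain ⟨w0, A0⟩ := exists_act H hn hz
  obtain ⟨w1, h1⟩ := exists_W1 H A0
  obtain ⟨w, h⟩ := exists_W2 H h1
  obtain ⟨i, hi, hN⟩ := w2_n H h
  have e3 : ee φ 3 = φ (z * W Co3DC.bW) := by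
    rw [ee_def]
    have e : v (ew 3) = z * W Co3DC.bW := by
      rw [← cd_inj, cd_ew 3 (by norm_num), cd_mul, cd_z]
      show _ = mulN zN (cd (wv gen z Co3DC.bW))
      rw [cd_wv]
      decide +kernel
    rw [e]
  have conj : ∀ {a b : G}, cj w a = b → a * w = w * b := by
    intro a b hab
    rw [← hab, cj_def]; group
  have hk := w2_k H h
  have base : ∀ v : M, φ (W Co3DC.kW) * w = w * φ (W Co3DC.kW * v) → WRel φ w v (W (ew i)) := by
    intro v hv
    refine ⟨h.w3, ?_, ?_, ?_, ?_, ?_, hv, ?_, ?_⟩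
    · rw [← ee_one]
      exact conj h.act.h1
    · rw [← e3]
      exact conj h.act.h2
    · exact conj h.act.h4
    · exact h.y.symm
    · rw [map_mul]
      exact conj (w2_x H h)
    · have hs := h.s
      have hss : pw φ TwoSp6.EFacts.sW * pw φ TwoSp6.EFacts.sW = 1 := by
        rw [← pw_append, pw_eq φ s_sq, pw_nil]
      show pw φ TwoSp6.EFacts.sW * w = w⁻¹ * pw φ TwoSp6.EFacts.sW
      rw [← hs]
      calc pw φ TwoSp6.EFacts.sW * w = pw φ TwoSp6.EFacts.sW * w * 1 := by group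
        _ = _ := by rw [← hss]; group
    · rw [map_mul]
      show w * pw φ TwoSp6.EFacts.nW * w = ee φ i * pw φ TwoSp6.EFacts.mW * w * pw φ TwoSp6.EFacts.m2W
      rw [hN]; group
  rcases hk with hk | hk
  · refine ⟨w, 1, i, hi, Or.inl rfl, base 1 ?_⟩
    rw [mul_one]
    exact conj hk
  · refine ⟨w, z * W Co3DC.bW, i, hi, Or.inr rfl, base _ ?_⟩
    have c : W Co3DC.kW * (z * W Co3DC.bW) = v (ew 3) * W Co3DC.kW := by
      rw [← cd_inj, cd_mul, cd_mul, cd_mul, cd_ew 3 (by norm_num), cd_z]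
      show mulN (cd (wv gen z Co3DC.kW)) (mulN zN (cd (wv gen z Co3DC.bW))) = mulN _ (cd (wv gen z Co3DC.kW))
      rw [cd_wv, cd_wv]
      decide +kernel
    rw [c, map_mul]
    exact conj hk

end Cfsg.Agent.SporRec.Co3DC.ExistsWRel
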