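import Cfsg.Agent.SporRec.Co3DC.Chk

/-!
# Closing a double coset enumeration

Kernel functions (and their soundness) for: initial facts, coverage of all directions `B^p`, orders of subgroups.
-/

set_option autoImplicit false
set_option exponentiation.threshold 2000

namespace Cfsg.Agent.SporRec.Co3DC.Final

open Cfsg.Agent.SporRec.TwoSp6.Mat Cfsg.Agent.SporRec.TwoSp6.Model Cfsg.Agent.Lib.PackMat
  Cfsg.Agent.SporRec.Co3DC Cfsg.Agent.SporRec.Co3DC.Chk

attribute [local irreducible] wP pc mulP swapP mulN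

/-! ### initial facts -/

/-- initial edge facts `w * φ (W c) * g i = g k` -/
noncomputable def initE (l : List (ℕ × List ℕ × ℕ)) : List EF → (List EF → Bool) → Bool :=
  List.rec (motive := fun _ => List EF → (List EF → Bool) → Bool) (fun acc K => K acc)
    (fun t _ ih acc K => force (wP t.2.1) fun c => force (wP []) fun o => ih (⟨t.1, c, o, t.2.2, o⟩ :: acc) K) l

/-- initial stabiliser facts `φ (W a) * g k = g k * φ (W b)` -/
noncomputable def initS (l : List (ℕ × List ℕ × List ℕ)) : List SF → (List SF → Bool) → Bool :=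
  List.rec (motive := fun _ => List SF → (List SF → Bool) → Bool) (fun acc K => K acc)
    (fun t _ ih acc K => force (wP t.2.1) fun a => force (wP t.2.2) fun b => ih (⟨t.1, a, b⟩ :: acc) K) l

/-- constants -/
noncomputable def initC (em : List ℕ) (K : Cst → Bool) : Bool :=
  force (wP sW) fun s => force (wP nW) fun n => force (wP em) fun em => force (wP m2W) fun m2 => K ⟨s, n, em, m2⟩

section Sem

variable {G : Type*} [Group G] {φ : M →* G} {w : G} {g : ℕ → G}

theorem initE_cons (t : ℕ × List ℕ × ℕ) (l : List (ℕ × List ℕ × ℕ)) (acc : List EF) (K : List EF → Bool) :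
    initE (t :: l) acc K = initE l (⟨t.1, wP t.2.1, wP [], t.2.2, wP []⟩ :: acc) K := by
  show force (wP t.2.1) (fun c => force (wP []) fun o => initE l (⟨t.1, c, o, t.2.2, o⟩ :: acc) K) = _
  rw [force_eq, force_eq]

theorem initS_cons (t : ℕ × List ℕ × List ℕ) (l : List (ℕ × List ℕ × List ℕ)) (acc : List SF) (K : List SF → Bool) :
    initS (t :: l) acc K = initS l (⟨t.1, wP t.2.1, wP t.2.2⟩ :: acc) K := by
  show force (wP t.2.1) (fun a => force (wP t.2.2) fun b => initS l (⟨t.1, a, b⟩ :: acc) K) = _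
  rw [force_eq, force_eq]

theorem initC_eq (em : List ℕ) (K : Cst → Bool) : initC em K = K ⟨wP sW, wP nW, wP em, wP m2W⟩ := by
  unfold initC
  rw [force_eq, force_eq, force_eq, force_eq]

theorem initE_sound (l : List (ℕ × List ℕ × ℕ)) : ∀ {acc : List EF} {K : List EF → Bool},
    (∀ t ∈ l, w * φ (W t.2.1) * g t.1 = g t.2.2) → AllE φ w g acc → initE l acc K = true →
    ∃ E, AllE φ w g E ∧ K E = true := by
  induction l with
  | nil => exact fun _ hE h => ⟨_, hE, h⟩
  | cons t l ih =>
    intro acc K ht hE h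
    rw [initE_cons] at h
    refine ih (fun t' h' => ht t' (List.mem_cons_of_mem _ h')) (AllE.cons hE ?_) h
    refine ⟨W t.2.1, 1, 1, pc_W _, pc_one, pc_one, ?_⟩
    rw [map_one, one_mul, mul_one]
    exact ht t (List.mem_cons_self ..)

theorem initS_sound (l : List (ℕ × List ℕ × List ℕ)) : ∀ {acc : List SF} {K : List SF → Bool},
    (∀ t ∈ l, φ (W t.2.1) * g t.1 = g t.1 * φ (W t.2.2)) → AllS φ g acc → initS l acc K = true →
    ∃ S, AllS φ g S ∧ K S = true := by
  induction l with
  | nil => exact fun _ hE h => ⟨_, hE, h⟩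
  | cons t l ih =>
    intro acc K ht hE h
    rw [initS_cons] at h
    refine ih (fun t' h' => ht t' (List.mem_cons_of_mem _ h')) (AllS.cons hE ?_) h
    exact ⟨W t.2.1, W t.2.2, pc_W _, pc_W _, ht t (List.mem_cons_self ..)⟩

theorem initC_sound {em : List ℕ} {K : Cst → Bool} (r1 : φ (W sW) * w = w⁻¹ * φ (W sW))
    (r2 : w * φ (W nW) * w = φ (W em) * w * φ (W m2W)) (r3 : w * w * w = 1) (h : initC em K = true) :
    ∃ C, COK φ w C ∧ K C = true := by
  rw [initC_eq] at h
  refine ⟨⟨wP sW, wP nW, wP em, wP m2W⟩, ⟨⟨W sW, W nW, W em, W m2W, ?_, ?_, ?_, ?_, r1, r2, r3⟩⟩, h⟩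
  · exact pc_W sW
  · exact pc_W nW
  · exact pc_W em
  · exact pc_W m2W

end Sem

/-! ### directions -/

/-- the involution `B` -/
noncomputable def B : M := W bW

/-- code of the direction of `p` -/
noncomputable def dir (p : M) : ℕ := cd (p⁻¹ * B * p)

/-- the `j`-th code in a packed list -/
noncomputable def yc (Yb j : ℕ) : ℕ := Nat.land (Nat.shiftRight Yb (Nat.mul 768 j)) msk

theorem dir_mul (p a : M) : dir (p * a) = cd (a⁻¹ * (p⁻¹ * B * p) * a) := by
  unfold dir
  rw [mul_inv_rev]
  simp only [mul_assoc]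

theorem dir_eq {p q : M} : dir p = dir q ↔ p⁻¹ * B * p = q⁻¹ * B * q := cd_inj

theorem dir_comm {p q : M} (h : dir p = dir q) : (p * q⁻¹) * B = B * (p * q⁻¹) := by
  rw [dir_eq] at h
  have : B * p = p * (q⁻¹ * B * q) := by rw [← h]; group
  calc p * q⁻¹ * B = p * (q⁻¹ * B * q) * q⁻¹ := by group
    _ = _ := by rw [← this]; group

/-! #### all directions are in the list -/

/-- images of the positions `j, j+1, …` under conjugation by the letter `a` -/
noncomputable def permOK (Yb a ai : ℕ) (l : List ℕ) : ℕ → Bool :=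
  List.rec (motive := fun _ => ℕ → Bool) (fun _ => true)
    (fun k _ ih j => force j fun j => cond (Nat.blt k 630) (cond (Nat.beq (mulN ai (mulN (yc Yb j) a)) (yc Yb k))
      (ih (Nat.succ j)) false) false) l

theorem permOK_sound {Yb a ai : ℕ} {l : List ℕ} : ∀ {j : ℕ}, permOK Yb a ai l j = true →
    ∀ i < l.length, ∃ k < 630, mulN ai (mulN (yc Yb (j + i)) a) = yc Yb k := by
  induction l with
  | nil => intro j _ i hi; exact absurd hi (by simp)
  | cons k l ih =>
    intro j h i hi
    have h' : cond (Nat.blt k 630) (cond (Nat.beq (mulN ai (mulN (yc Yb j) a)) (yc Yb k))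
      (permOK Yb a ai l (Nat.succ j)) false) false = true := h
    obtain ⟨h1, h2⟩ := cond_true_of h'
    obtain ⟨h3, h4⟩ := cond_true_of h2
    cases i with
    | zero => exact ⟨k, by rw [← Nat.blt_eq]; exact h1, by rw [Nat.add_zero]; exact Nat.eq_of_beq_eq_true h3⟩
    | succ i =>
      obtain ⟨k', hk', e⟩ := ih h4 i (by simpa using hi)
      exact ⟨k', hk', by rw [← e]; congr 3; omega⟩

theorem dir_mem {Yb : ℕ} (h0 : cd B = yc Yb 0)
    (hp : ∀ i : Fin 7, ∀ j < 630, ∃ k < 630, mulN (mulN zN (ltN i)) (mulN (yc Yb j) (ltN i)) = yc Yb k) (p : M) :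
    ∃ j < 630, dir p = yc Yb j := by
  obtain ⟨u, rfl⟩ := Cfsg.Agent.SporRec.TwoSp6.Order.exists_wv p
  induction u using List.reverseRecOn with
  | nil =>
    refine ⟨0, by norm_num, ?_⟩
    rw [wv_nil]
    unfold dir
    rw [inv_one, one_mul, mul_one]
    exact h0
  | append_singleton u k ih =>
    obtain ⟨j, hj, e⟩ := ih
    have e0 : wv gen z (u ++ [k]) = wv gen z u * lt gen z k := by
      rw [wv_append, wv_cons, wv_nil, mul_one]
    rw [e0, dir_mul]
    by_cases hk : k < 7
    · obtain ⟨k', hk', e2⟩ := hp ⟨k, hk⟩ j hj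
      refine ⟨k', hk', ?_⟩
      rw [← e2, ← e, mul_assoc, cd_mul, cd_mul, inv_lt, cd_lt_eq]
      have : Nat.blt k 7 = true := by rw [Nat.blt_eq]; exact hk
      rw [this]
      rfl
    · have hz : lt gen z k = z := by
        unfold lt
        split_ifs <;> first | omega | rfl
      refine ⟨j, hj, ?_⟩
      rw [hz, ← e]
      unfold dir
      rw [cd_inj, mul_assoc, ← z_comm, ← mul_assoc, inv_mul_cancel, one_mul]
where
  cd_lt_eq {k : ℕ} : cd (lt gen z k) = ltN k := Cfsg.Agent.SporRec.TwoSp6.Model.cd_lt k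

/-! #### coverage -/

/-- coverage instruction -/
inductive CI where
  | root (f idx : ℕ)
  | con (par l idx : ℕ)

/-- coverage check for the double coset number `i` -/
noncomputable def cov (Yb Bc i : ℕ) (E : List EF) (S : List SF) (l : List CI) : ℕ → Bool :=
  List.rec (motive := fun _ => ℕ → Bool) (fun mask => Nat.beq mask (Nat.sub (Nat.pow 2 630) 1))
    (fun c _ ih mask =>
      match c with
      | .root f idx => nthK E f fun f => cond (Nat.beq f.i i) (cond (Nat.blt f.k 7)
          (cond (Nat.beq (mulN (hi f.c) (mulN Bc (lo f.c))) (yc Yb idx))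
            (force (Nat.lor mask (Nat.shiftLeft 1 idx)) fun mask => ih mask) false) false) false
      | .con par l idx => cond (Nat.beq (Nat.land (Nat.shiftRight mask par) 1) 1)
          (getS S l fun ko a _ => cond (Nat.beq ko i)
            (cond (Nat.beq (mulN (hi a) (mulN (yc Yb par) (lo a))) (yc Yb idx))
              (force (Nat.lor mask (Nat.shiftLeft 1 idx)) fun mask => ih mask) false) false) false) l

section Sem2

variable {G : Type*} [Group G] {φ : M →* G} {w : G} {g : ℕ → G}

/-- union of the double cosets -/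
def U (φ : M →* G) (g : ℕ → G) : Set G := {x | ∃ k < 7, ∃ a b : M, x = φ a * g k * φ b}

theorem U_left {x : G} (a : M) (h : x ∈ U φ g) : φ a * x ∈ U φ g := by
  obtain ⟨k, hk, a', b', rfl⟩ := h
  exact ⟨k, hk, a * a', b', by rw [map_mul]; simp only [mul_assoc]⟩

theorem U_right {x : G} (b : M) (h : x ∈ U φ g) : x * φ b ∈ U φ g := by
  obtain ⟨k, hk, a', b', rfl⟩ := h
  exact ⟨k, hk, a', b' * b, by rw [map_mul]; simp only [mul_assoc]⟩

/-- `w` normalises the centraliser of `B` -/
def Norm (φ : M →* G) (w : G) : Prop := ∀ d : M, d * B = B * d → ∃ d2 : M, w * φ d = φ d2 * w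

/-- direction `y` of the double coset `i` is known -/
def Good (φ : M →* G) (w : G) (g : ℕ → G) (i y : ℕ) : Prop :=
  (∃ p : M, dir p = y) ∧ (Norm φ w → ∀ p : M, dir p = y → w * φ p * g i ∈ U φ g)

theorem testBit_of_land {m i : ℕ} (h : Nat.beq (Nat.land (Nat.shiftRight m i) 1) 1 = true) : m.testBit i = true := by
  have h1 : (m >>> i) &&& 1 = 1 := Nat.eq_of_beq_eq_true h
  rw [Nat.testBit, Nat.and_comm, h1]
  rfl

theorem cov_sound {Yb Bc i : ℕ} (hB : Bc = cd B) {E : List EF} {S : List SF} (hE : AllE φ w g E) (hS : AllS φ g S)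
    (l : List CI) : ∀ {mask : ℕ}, (∀ idx, mask.testBit idx = true → Good φ w g i (yc Yb idx)) →
      cov Yb Bc i E S l mask = true → ∀ idx < 630, Good φ w g i (yc Yb idx) := by
  induction l with
  | nil =>
    intro mask hm h idx hidx
    have h' : mask = 2 ^ 630 - 1 := Nat.eq_of_beq_eq_true (show Nat.beq mask _ = true from h)
    apply hm
    rw [h', Nat.testBit_two_pow_sub_one]
    simpa using hidx
  | cons c l ih =>
    intro mask hm h
    have key : ∀ idx, Good φ w g i (yc Yb idx) → cov Yb Bc i E S l (Nat.lor mask (Nat.shiftLeft 1 idx)) = true →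
        ∀ idx < 630, Good φ w g i (yc Yb idx) := by
      intro idx hg hc
      refine ih ?_ hc
      intro idx' h'
      have h2 : (mask ||| (1 <<< idx)).testBit idx' = true := h'
      rw [Nat.testBit_lor, Bool.or_eq_true] at h2
      rcases h2 with h2 | h2
      · exact hm idx' h2
      · rw [Nat.one_shiftLeft, Nat.testBit_two_pow] at h2
        have : idx = idx' := by simpa using h2
        subst this; exact hg
    cases c with
    | root f idx =>
      obtain ⟨f, hf, h⟩ := nthK_sound (show nthK E f (fun f => cond (Nat.beq f.i i) (cond (Nat.blt f.k 7)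
          (cond (Nat.beq (mulN (hi f.c) (mulN Bc (lo f.c))) (yc Yb idx))
            (cov Yb Bc i E S l (Nat.lor mask (Nat.shiftLeft 1 idx))) false) false) false) = true from h)
      obtain ⟨h1, h2⟩ := cond_true_of h
      obtain ⟨h3, h4⟩ := cond_true_of h2
      obtain ⟨h5, h6⟩ := cond_true_of h4
      refine key idx ?_ h6
      have hi := Nat.eq_of_beq_eq_true h1
      have hy := Nat.eq_of_beq_eq_true h5
      have hk : f.k < 7 := by rw [← Nat.blt_eq]; exact h3
      obtain ⟨c', m', d', hc, hm', hd, e⟩ := hE f hf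
      rw [← hc, hi_pc, lo_pc, hB, ← cd_mul, ← cd_mul, ← mul_assoc] at hy
      rw [hi] at e
      refine ⟨⟨c', hy⟩, fun hnorm p hp => ?_⟩
      have hcomm := dir_comm (p := p) (q := c') (hp.trans hy.symm)
      obtain ⟨d2, hd2⟩ := hnorm _ hcomm
      have e3 : w * φ p * g i = φ d2 * (w * φ c' * g i) := by
        have : p = (p * c'⁻¹) * c' := by group
        rw [this, map_mul, ← mul_assoc w, hd2]; simp only [mul_assoc]
      rw [e3, e]
      exact U_left _ ⟨f.k, hk, m', d', rfl⟩
    | con par s idx =>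
      obtain ⟨h1, h2⟩ := cond_true_of (show cond (Nat.beq (Nat.land (Nat.shiftRight mask par) 1) 1)
          (getS S s fun ko a _ => cond (Nat.beq ko i)
            (cond (Nat.beq (mulN (hi a) (mulN (yc Yb par) (lo a))) (yc Yb idx))
              (cov Yb Bc i E S l (Nat.lor mask (Nat.shiftLeft 1 idx))) false) false) false = true from h)
      obtain ⟨ko, a, b, hs, h3⟩ := getS_sound hS h2
      obtain ⟨h4, h5⟩ := cond_true_of h3
      obtain ⟨h6, h7⟩ := cond_true_of h5
      refine key idx ?_ h7
      have hko := Nat.eq_of_beq_eq_true h4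
      have hy := Nat.eq_of_beq_eq_true h6
      obtain ⟨⟨p0, hp0⟩, hpar⟩ := hm par (testBit_of_land h1)
      obtain ⟨a', b', rfl, rfl, e⟩ := hs
      rw [hko] at e
      have hy2 : dir (p0 * a') = yc Yb idx := by
        rw [dir_mul, ← hy, hi_pc, lo_pc, ← hp0, mul_assoc, cd_mul, cd_mul]; rfl
      refine ⟨⟨p0 * a', hy2⟩, fun hnorm p hp => ?_⟩
      have h8 : dir (p * a'⁻¹) = yc Yb par := by
        rw [← hp0]
        have h9 : dir p = dir (p0 * a') := hp.trans hy2.symm
        rw [dir_eq] at h9 ⊢
        calc (p * a'⁻¹)⁻¹ * B * (p * a'⁻¹) = a' * (p⁻¹ * B * p) * a'⁻¹ := by group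
          _ = p0⁻¹ * B * p0 := by rw [h9]; group
      have h10 := hpar hnorm _ h8
      have e4 : w * φ p * g i = w * φ (p * a'⁻¹) * g i * φ b' := by
        have : p = (p * a'⁻¹) * a' := by group
        calc w * φ p * g i = w * φ (p * a'⁻¹ * a') * g i := by rw [← this]
          _ = w * φ (p * a'⁻¹) * (φ a' * g i) := by rw [map_mul]; simp only [mul_assoc]
          _ = _ := by rw [e]; simp only [mul_assoc]
      rw [e4]
      exact U_right _ h10

end Sem2

end Cfsg.Agent.SporRec.Co3DC.Final
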