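import Cfsg.Agent.SporRec.Co3DC.KernBase

/-!
# Kernel checks: the other double cosets
-/

set_option autoImplicit false
set_option exponentiation.threshold 2000
set_option maxRecDepth 100000

namespace Cfsg.Agent.SporRec.Co3DC.Bound

open Cfsg.Agent.SporRec.TwoSp6.Mat Cfsg.Agent.SporRec.TwoSp6.Model Cfsg.Agent.Lib.PackMat
  Cfsg.Agent.SporRec.Co3DC Cfsg.Agent.SporRec.Co3DC.Chk Cfsg.Agent.SporRec.Co3DC.Final
  Cfsg.Agent.SporRec.Co3DC.Count Cfsg.Agent.SporRec.Co3DC.Data

theorem fin2 : fin 2 1201 cov2 gl2 en2 = true := by decide +kernel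
theorem fin3 : fin 3 9091 cov3 gl3 en3 = true := by decide +kernel
theorem fin4 : fin 4 1013 cov4 gl4 en4 = true := by decide +kernel
theorem fin5 : fin 5 1009 cov5 gl5 en5 = true := by decide +kernel
theorem fin6 : fin 6 191783 cov6 gl6 en6 = true := by decide +kernel
theorem len1 : en1.length = 4607 := by decide +kernel
theorem len2 : en2.length = 95 := by decide +kernel
theorem len3 : en3.length = 323 := by decide +kernel
theorem len4 : en4.length = 35 := by decide +kernel
theorem len5 : en5.length = 59 := by decide +kernel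
theorem len6 : en6.length = 1511 := by decide +kernel

end Cfsg.Agent.SporRec.Co3DC.Bound
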