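import Cfsg.Agent.SporRec.Co3DC.KernBase

/-!
# Kernel checks: the directions
-/

set_option autoImplicit false
set_option exponentiation.threshold 2000
set_option maxRecDepth 100000

namespace Cfsg.Agent.SporRec.Co3DC.Bound

open Cfsg.Agent.SporRec.TwoSp6.Mat Cfsg.Agent.SporRec.TwoSp6.Model Cfsg.Agent.Lib.PackMat
  Cfsg.Agent.SporRec.Co3DC Cfsg.Agent.SporRec.Co3DC.Chk Cfsg.Agent.SporRec.Co3DC.Final
  Cfsg.Agent.SporRec.Co3DC.Count Cfsg.Agent.SporRec.Co3DC.Data

theorem pk0 : pk 0 perm0 = true := by decide +kernel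
theorem pk1 : pk 1 perm1 = true := by decide +kernel
theorem pk2 : pk 2 perm2 = true := by decide +kernel
theorem pk3 : pk 3 perm3 = true := by decide +kernel
theorem pk4 : pk 4 perm4 = true := by decide +kernel
theorem pk5 : pk 5 perm5 = true := by decide +kernel
theorem pk6 : pk 6 perm6 = true := by decide +kernel
theorem dist : distK Yb 36473 630 0 0 = true := by decide +kernel
theorem start : Nat.beq (wN bW) (yc Yb 0) = true := by decide +kernel

end Cfsg.Agent.SporRec.Co3DC.Bound
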