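import Cfsg.Agent.SporRec.Co3DC.KernA
import Cfsg.Agent.SporRec.Co3DC.KernB
import Cfsg.Agent.SporRec.Co3DC.KernC
import Cfsg.Agent.SporRec.Co3DC.KernD

/-!
# The kernel checks for the double coset enumeration of the third Conway group
-/
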