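import Cfsg.Agent.SporRec.Co3DC.KernBase

/-!
# Kernel check: the first double coset
-/

set_option autoImplicit false
set_option exponentiation.threshold 2000
set_option maxRecDepth 100000

namespace Cfsg.Agent.SporRec.Co3DC.Bound

open Cfsg.Agent.SporRec.TwoSp6.Mat Cfsg.Agent.SporRec.TwoSp6.Model Cfsg.Agent.Lib.PackMat
  Cfsg.Agent.SporRec.Co3DC Cfsg.Agent.SporRec.Co3DC.Chk Cfsg.Agent.SporRec.Co3DC.Final
  Cfsg.Agent.SporRec.Co3DC.Count Cfsg.Agent.SporRec.Co3DC.Data

theorem fin1 : fin 1 1769539 cov1 gl1 en1 = true := by decide +kernel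

end Cfsg.Agent.SporRec.Co3DC.Bound
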