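import Cfsg.Agent.SporRec.Co3DC.Data

/-!
# The kernel checks for the third Conway group: definitions
-/

set_option autoImplicit false
set_option exponentiation.threshold 2000
set_option maxRecDepth 100000

namespace Cfsg.Agent.SporRec.Co3DC.Bound

open Cfsg.Agent.SporRec.TwoSp6.Mat Cfsg.Agent.SporRec.TwoSp6.Model Cfsg.Agent.Lib.PackMat
  Cfsg.Agent.SporRec.Co3DC Cfsg.Agent.SporRec.Co3DC.Chk Cfsg.Agent.SporRec.Co3DC.Final
  Cfsg.Agent.SporRec.Co3DC.Count Cfsg.Agent.SporRec.Co3DC.Data

/-- run all derivations, then `K` -/
noncomputable def chk (K : List EF → List SF → Bool) : Bool :=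
  initC mW fun C => initE e0 [] fun E => initS s0 [] fun S => run C steps E S K

/-- enumeration of the group generated by `gs` -/
noncomputable def en (P : ℕ) (l : List ℕ) (gs : List ℕ) : Bool :=
  enum P gs l [oneN] (Nat.shiftLeft 1 (Nat.mod oneN P))

/-- check for the double coset `i` -/
noncomputable def fin (i P : ℕ) (cl : List CI) (gl l : List ℕ) : Bool :=
  force (wN bW) fun Bc => chk fun E S => cond (cov Yb Bc i E S cl 0) (gensA S i gl [] fun gs => en P l gs) false

noncomputable def finB (P : ℕ) (gl l : List ℕ) : Bool :=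
  force (wN bW) fun Bc => chk fun _ S => gensB S Bc gl [] fun gs => en P l gs

/-- closure of the list of directions under one generator -/
noncomputable def pk (i : ℕ) (l : List ℕ) : Bool :=
  force (ltN i) fun a => force (mulN zN a) fun ai => cond (Nat.beq l.length 630) (permOK Yb a ai l 0) false

end Cfsg.Agent.SporRec.Co3DC.Bound
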