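import Cfsg.Agent.SporRec.Co3DC.Rel

/-!
Codes of pairs `(g, g⁻¹)` for elements of the model: `pc g = cd g + cd g⁻¹ * 2 ^ 768`.
-/

set_option autoImplicit false
set_option exponentiation.threshold 2000

namespace Cfsg.Agent.SporRec.Co3DC

open Cfsg.Agent.SporRec.TwoSp6.Mat Cfsg.Agent.SporRec.TwoSp6.Model Cfsg.Agent.Lib.PackMat

def msk : ℕ := 0xffffffffffffffffffffffffffffffffffffffffffffffffffffffffffffffffffffffffffffffffffffffffffffffffffffffffffffffffffffffffffffffffffffffffffffffffffffffffffffffffffffffffffffffffffffffffffffffff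

theorem msk_eq : msk = 2 ^ 768 - 1 := by decide +kernel

noncomputable def lo (P : ℕ) : ℕ := Nat.land P msk
noncomputable def hi (P : ℕ) : ℕ := Nat.shiftRight P 768
noncomputable def mkP (a b : ℕ) : ℕ := Nat.add a (Nat.shiftLeft b 768)

/-- product of pair codes -/
noncomputable def mulP (P Q : ℕ) : ℕ :=
  force P fun P => force Q fun Q => mkP (mulN (lo P) (lo Q)) (mulN (hi Q) (hi P))

/-- inverse of a pair code -/
noncomputable def swapP (P : ℕ) : ℕ := force P fun P => mkP (hi P) (lo P)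

/-- pair code of an element of the model -/
noncomputable def pc (g : M) : ℕ := mkP (cd g) (cd g⁻¹)

theorem cd_lt (g : M) : cd g < 2 ^ 768 := by
  have h : ∀ k < 64, ent ((g : Mxˣ) : Mx) k < 2 ^ 12 := fun k _ => by have := ent_le ((g : Mxˣ) : Mx) k; omega
  have := E_lt h
  exact this

theorem lo_mkP {a b : ℕ} (h : a < 2 ^ 768) : lo (mkP a b) = a := by
  change (a + b <<< 768) &&& msk = a
  rw [msk_eq, Nat.and_two_pow_sub_one_eq_mod, Nat.shiftLeft_eq, Nat.add_mul_mod_self_right, Nat.mod_eq_of_lt h]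

theorem hi_mkP {a b : ℕ} (h : a < 2 ^ 768) : hi (mkP a b) = b := by
  change (a + b <<< 768) >>> 768 = b
  rw [Nat.shiftRight_eq_div_pow, Nat.shiftLeft_eq, Nat.add_mul_div_right _ _ (by positivity), Nat.div_eq_of_lt h, zero_add]

theorem lo_pc (g : M) : lo (pc g) = cd g := lo_mkP (cd_lt g)
theorem hi_pc (g : M) : hi (pc g) = cd g⁻¹ := hi_mkP (cd_lt g)

theorem mulP_def (P Q : ℕ) : mulP P Q = mkP (mulN (lo P) (lo Q)) (mulN (hi Q) (hi P)) := rfl
theorem swapP_def (P : ℕ) : swapP P = mkP (hi P) (lo P) := rfl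

theorem pc_mul (g h : M) : pc (g * h) = mulP (pc g) (pc h) := by
  rw [mulP_def, lo_pc, lo_pc, hi_pc, hi_pc, ← cd_mul, ← cd_mul, ← mul_inv_rev]; rfl

theorem pc_inv (g : M) : pc g⁻¹ = swapP (pc g) := by
  rw [swapP_def, lo_pc, hi_pc]
  unfold pc
  rw [inv_inv]

theorem pc_injective : Function.Injective pc := fun g h e => by
  have := congrArg lo e
  rw [lo_pc, lo_pc, cd_inj] at this
  exact this

theorem pc_inj {g h : M} : pc g = pc h ↔ g = h := pc_injective.eq_iff

/-- pair code of a letter -/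
noncomputable def ltP (k : ℕ) : ℕ := force (ltN k) fun a => mkP a (cond (Nat.blt k 7) (mulN zN a) a)

/-- code of the inverse of a word -/
noncomputable def wNI (w : List ℕ) : ℕ :=
  List.rec (motive := fun _ => ℕ) oneN (fun k _ ih => force ih fun ih => mulN ih (cond (Nat.blt k 7) (mulN zN (ltN k)) (ltN k))) w

/-- pair code of a word -/
noncomputable def wP (w : List ℕ) : ℕ := mkP (wN w) (wNI w)

theorem inv_lt (k : ℕ) : cd (lt gen z k)⁻¹ = cond (Nat.blt k 7) (mulN zN (ltN k)) (ltN k) := by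
  have hz : z⁻¹ = z := by rw [inv_eq_iff_mul_eq_one]; exact z_sq
  cases h : Nat.blt k 7 with
  | false =>
    have hk : ¬ k < 7 := by
      intro hlt
      rw [← Nat.blt_eq] at hlt
      rw [h] at hlt
      exact absurd hlt (by simp)
    have e : lt gen z k = z := by
      unfold lt
      split_ifs <;> first | omega | rfl
    rw [cond_false, e, hz, ← e, cd_lt_letter]
  | true =>
    have hk : k < 7 := by rw [← Nat.blt_eq]; exact h
    rw [cond_true, ← cd_z, ← cd_lt_letter, ← cd_mul, cd_inj, inv_eq_iff_mul_eq_one]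
    have hg : ∃ i : Fin 7, lt gen z k = gen i := by
      unfold lt
      split_ifs
      · exact ⟨0, rfl⟩
      · exact ⟨1, rfl⟩
      · exact ⟨2, rfl⟩
      · exact ⟨3, rfl⟩
      · exact ⟨4, rfl⟩
      · exact ⟨5, rfl⟩
      · exact ⟨6, rfl⟩
      · omega
    obtain ⟨i, hi⟩ := hg
    rw [hi, ← mul_assoc, ← z_comm, mul_assoc, rels.sq, z_sq]
where
  cd_lt_letter := Cfsg.Agent.SporRec.TwoSp6.Model.cd_lt k

theorem wNI_cons (k : ℕ) (w : List ℕ) :
    wNI (k :: w) = mulN (wNI w) (cond (Nat.blt k 7) (mulN zN (ltN k)) (ltN k)) :=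
  force_eq (wNI w) fun ih => mulN ih (cond (Nat.blt k 7) (mulN zN (ltN k)) (ltN k))

theorem cd_inv_wv (w : List ℕ) : cd (wv gen z w)⁻¹ = wNI w := by
  induction w with
  | nil => rw [wv_nil, inv_one, cd_one]; rfl
  | cons k w ih =>
    rw [wv_cons, mul_inv_rev, cd_mul, ih, inv_lt, wNI_cons]

theorem pc_W (w : List ℕ) : pc (W w) = wP w := by
  unfold pc wP
  rw [cd_wv, cd_inv_wv]

theorem pc_one : pc 1 = wP [] := pc_W []

end Cfsg.Agent.SporRec.Co3DC
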