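import Cfsg.Agent.SporRec.Co3.PureE
import Cfsg.Agent.SporRec.Co3DC.Forced

/-!
# From the hypothesis of the recognition theorem to `(φ, w)` (third Conway group)
-/

set_option autoImplicit false

namespace Cfsg.Agent.SporRec.Co3DC.PhiW

open Cfsg.Agent.SporRec.TwoSp6.Mat Cfsg.Agent.SporRec.TwoSp6.Model Cfsg.Agent.SporRec.TwoSp6.Order
  Cfsg.Agent.SporRec.TwoSp6.EFacts Cfsg.Agent.SporRec.Co3DC.EAct

theorem ew_eq : ∀ i < 16, Co3.PureE.ew i = TwoSp6.EFacts.ew i := by decide +kernel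

/-- **`C_G(t)` is a nonsplit double cover of `Sp₆(2)` and `t` is not isolated: there are `φ` and `w` with all relations of
the third Conway group.** -/
theorem exists_phi_w {G : Type*} [Group G] [Finite G] (hO : Cfsg.oddCore G = ⊥) (hZ : Subgroup.center G = ⊥)
    (t : G) (ht : orderOf t = 2)
    (hC : Cfsg.IsNonsplitDoubleCover (Subgroup.centralizer ({t} : Set G))
      (Matrix.symplecticGroup (Fin 3) (ZMod 2))) :
    ∃ (φ : M →* G) (w : G), Hyp φ ∧ φ z = t ∧ WRel φ w 1 1 := by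
  obtain ⟨φ, hinj, hz, hcent, g, hg, hgz⟩ := Co3.PureE.exists_phi hO hZ t ht hC
  have H : Hyp φ := ⟨hinj, hcent⟩
  have hn : ∀ i < 16, ∃ j < 16, g⁻¹ * ee φ i * g = ee φ j := by
    intro i hi
    obtain ⟨j, hj, e⟩ := hg i hi
    rw [ew_eq i hi, ew_eq j hj] at e
    exact ⟨j, hj, e⟩
  obtain ⟨w, hw⟩ := Forced.exists_wrel_one H hn hgz
  exact ⟨φ, w, H, hz, hw⟩

end Cfsg.Agent.SporRec.Co3DC.PhiW
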